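import Groth.Agent.NearCyc.Basic
import Groth.Agent.EtStrictLoc.Limit
import Groth.Agent.LAcyc.Limit
import Groth.Agent.LAcyc.Line
import Groth.Agent.EtPBC.AffineLefMain
import Groth.Agent.EtPBC.CdTensor
import Groth.Agent.DimChain.Basic
import Groth.Agent.S9709
import Groth.Agent.EtMV.NormalIrr
import Mathlib

/-! Cohomological dimension of the geometric generic fibre of a strict localisation. -/

set_option autoImplicit false
set_option backward.isDefEq.respectTransparency false
set_option backward.isDefEq.respectTransparency.types false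
set_option linter.style.haveILetI false
set_option linter.overlappingInstances false
set_option maxHeartbeats 1000000
set_option linter.auxLemma false

universe u

open CategoryTheory CategoryTheory.Limits AlgebraicGeometry

noncomputable section

namespace Groth.Agent.NearCyc

attribute [local instance 100000] EtCoh.H._proof_1 Groth.Agent.EtMV.hext
attribute [local instance 200000] Groth.Agent.EtMV.hextAb

theorem dim_le_of_locallyQuasiFinite {X Y : Scheme.{u}} (f : X ⟶ Y) [LocallyQuasiFinite f] :
    topologicalKrullDim ↥X ≤ topologicalKrullDim ↥Y :=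
  DimChain.le_of_incomparable f f.continuous fun a b hab he => by
    have := (f.isDiscrete_preimage_singleton (f.base a)).to_subtype
    let a' : (f ⁻¹' {f.base a} : Set X) := ⟨a, rfl⟩
    let b' : (f ⁻¹' {f.base a} : Set X) := ⟨b, he.symm⟩
    have h : a' ⤳ b' := Topology.IsInducing.subtypeVal.specializes_iff.1 hab
    exact congrArg Subtype.val h.eq

theorem dim_le_of_isIntegralHom {X Y : Scheme.{u}} (f : X ⟶ Y) [IsIntegralHom f] :
    topologicalKrullDim ↥X ≤ topologicalKrullDim ↥Y :=
  DimChain.le_of_incomparable f f.continuous fun a b hab he => by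
    have h := Groth.Agent.S9709.result f a
    have : b ∈ closure {a} ∩ f.base ⁻¹' {f.base a} := ⟨specializes_iff_mem_closure.1 hab, he.symm⟩
    rw [h] at this
    exact this.symm

section Stage

variable {W X S SK SO : Scheme.{u}} (f : X ⟶ S) (w : W ⟶ X) (gK : SK ⟶ S) (gam : SO ⟶ SK)

/-- the geometric fibre of an étale scheme has at most the dimension of the generic fibre -/
theorem dim_stage [Etale w] [IsIntegralHom gam] :
    topologicalKrullDim ↥(pullback (w ≫ f) (gam ≫ gK)) ≤ topologicalKrullDim ↥(pullback f gK) := by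
  let P := pullback w (pullback.fst f gK)
  let a : pullback (pullback.snd f gK) gam ≅ pullback f (gam ≫ gK) := pullbackLeftPullbackSndIso f gK gam
  let e : pullback w (pullback.fst f (gam ≫ gK)) ≅ pullback (w ≫ f) (gam ≫ gK) := pullbackRightPullbackFstIso f (gam ≫ gK) w
  let r : pullback w (pullback.fst f (gam ≫ gK)) ⟶ pullback (pullback.snd f gK) gam :=
    pullback.snd _ _ ≫ a.inv
  haveI : Etale r := inferInstance
  haveI : LocallyQuasiFinite r := Groth.Agent.EtMV.lqf_of_etale r
  haveI : IsIntegralHom (pullback.fst (pullback.snd f gK) gam) := MorphismProperty.pullback_fst _ _ ‹_›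
  refine (IsHomeomorph.topologicalKrullDim_eq _ e.hom.homeomorph.isHomeomorph).symm.trans_le ?_
  exact (dim_le_of_locallyQuasiFinite r).trans (dim_le_of_isIntegralHom (pullback.fst (pullback.snd f gK) gam))

end Stage

variable {V K Ω : Type u} [CommRing V] [Field K] [Algebra V K] [Field Ω] [IsSepClosed Ω] [Algebra K Ω]
  [Algebra.IsIntegral K Ω] [Algebra V Ω] [IsScalarTower V K Ω] {X : Scheme.{u}} (f : X ⟶ Spec (CommRingCat.of V))
  [LocallyOfFiniteType f]

/-- geometric generic fibres of affine étale schemes have cohomological dimension at most the dimension -/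
theorem cohDimLE_stage {W : Scheme.{u}} (w : W ⟶ X) [Etale w] [IsAffine W] {n : ℕ}
    (hn : topologicalKrullDim ↥(pullback f (Spec.map (CommRingCat.ofHom (algebraMap V K)))) ≤ n) :
    EtCoh.CohDimLE (pullback (w ≫ f) (Spec.map (CommRingCat.ofHom (algebraMap V Ω)))) n := by
  let gK := Spec.map (CommRingCat.ofHom (algebraMap V K))
  let gam := Spec.map (CommRingCat.ofHom (algebraMap K Ω))
  have hcomp : Spec.map (CommRingCat.ofHom (algebraMap V Ω)) = gam ≫ gK := by
    rw [← Spec.map_comp, IsScalarTower.algebraMap_eq V K Ω]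
    rfl
  haveI : IsIntegralHom gam := IsIntegralHom.SpecMap_iff.2 (algebraMap_isIntegral_iff.2 ‹_›)
  haveI : LocallyOfFiniteType (pullback.snd (w ≫ f) (gam ≫ gK)) := MorphismProperty.pullback_snd _ _ inferInstance
  have h := EtPBC.kVanOn_affine (pullback.snd (w ≫ f) (gam ≫ gK)) ((dim_stage f w gK gam).trans hn)
    (EtPBC.kVanOn_sepClosed (L := Set.univ) Ω)
  rw [hcomp]
  exact EtPBC.cohDimLE_of_kVanOn h

variable [QuasiCompact f] (x : X) (R : Type u) [CommRing R] [IsLocalRing R] [Algebra (X.presheaf.stalk x) R]
  [IsLocalHom (algebraMap (X.presheaf.stalk x) R)] [_root_.Hensel.IsStrictHenselization (X.presheaf.stalk x) R]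

/-- **vanishing of nearby cycles above the dimension** -/
theorem subsingleton_H_above {n : ℕ}
    (hn : topologicalKrullDim ↥(pullback f (Spec.map (CommRingCat.ofHom (algebraMap V K)))) ≤ n)
    {m : ℕ} (hm : 0 < m) {i : ℕ} (hi : n < i) :
    Subsingleton (EtCoh.H (pullback (Hens2.specOf X x R ≫ f) (Spec.map (CommRingCat.ofHom (algebraMap V Ω))))
      (EtCoh.const _ (ZMod m)) i) := by
  haveI hS := ‹_root_.Hensel.IsStrictHenselization (X.presheaf.stalk x) R›
  haveI : HenselianLocalRing R := hS.henselian
  haveI : IsSepClosed (IsLocalRing.ResidueField R) := hS.isSepClosure.1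
  let gam := Spec.map (CommRingCat.ofHom (algebraMap V Ω))
  let I := EtStrictLoc.Idx X x R
  let E := EtStrictLoc.diag X x R
  let c := EtStrictLoc.cone X x R
  let α : E ⟶ (Functor.const I).obj (Spec (CommRingCat.of V)) :=
    { app := fun a => a.nhd.et.hom ≫ f
      naturality := fun a b h => by
        refine (Eq.trans ?_ (Category.comp_id _).symm)
        exact (Category.assoc _ _ _).symm.trans (congrArg (· ≫ f)
          (MorphismProperty.Over.w ((Scheme.AffineEtale.Spec X).map (EtStrictLoc.Idx.nhdMap h).1))) }
  have hg : ∀ a, c.π.app a ≫ α.app a = Hens2.specOf X x R ≫ f := fun a => by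
    show Spec.map a.nhd.ev ≫ a.nhd.et.hom ≫ f = _
    rw [a.nhd.spec_ev, ← Category.assoc, a.nhd.sec_w]
  let g := Hens2.specOf X x R ≫ f
  haveI : IsConnected I := IsCofiltered.isConnected _
  haveI : ∀ a, IsAffine (E.obj a) := fun a => inferInstanceAs (IsAffine (Spec _))
  haveI : ∀ {a b : I} (h : a ⟶ b), IsAffineHom ((LAcyc.fibSys α gam).map h) := fun h => inferInstance
  obtain ⟨hP⟩ := EtBCQ.nonempty_isLimit_pbCone α ((Functor.const I).map gam) (cT := c)
    (cS := constCone I (Spec (CommRingCat.of V))) (cB := constCone I (Spec (CommRingCat.of Ω))) g gam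
    (fun a => (Category.comp_id g).trans (hg a).symm)
    (fun a => (Category.comp_id gam).trans (Category.id_comp gam).symm) (pullback.fst g gam) (pullback.snd g gam)
    (EtStrictLoc.isLimitCone X x R) (isLimitConstCone I _) (isLimitConstCone I _) (IsPullback.of_hasPullback g gam)
  exact EtLimit.cohDimLE_limit _ _ hP n (fun a => haveI : IsAffine ((𝟭 Scheme).obj a.nhd.et.left) := (inferInstance : IsAffine (Spec a.nhd.1.left.unop)); cohDimLE_stage f a.nhd.et.hom hn) _ (LAcyc.isTorsion_const _ hm) i hi

end Groth.Agent.NearCyc
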