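import Groth.Agent.EtPBC.FieldCd
import Groth.Agent.EtPBC.CdDevDeg
import Groth.Agent.S0108
import Mathlib

/-! Fields all of whose finite separable extensions have divisible unit groups. -/

set_option autoImplicit false
set_option backward.isDefEq.respectTransparency false
set_option backward.isDefEq.respectTransparency.types false
set_option linter.auxLemma false
set_option linter.style.haveILetI false

universe u

open CategoryTheory CategoryTheory.Limits CategoryTheory.Abelian AlgebraicGeometry Opposite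

noncomputable section

namespace Groth.Agent.NearCyc

attribute [local instance 100000] EtCoh.H._proof_1 EtMV.hext
attribute [local instance 200000] EtMV.hextAb

/-- `H¹` of roots of unity on the spectrum of a field with divisible units -/
theorem subsingleton_H_one_mu (L : Type u) [Field L] (p : ℕ) (hp : (p : L) ≠ 0) (hdiv : ∀ a : L, ∃ b, b ^ p = a) :
    Subsingleton (EtCoh.H (Spec (CommRingCat.of L)) (EtCoh.mu _ p) 1) := by
  let X := Spec (CommRingCat.of L)
  let φ : L →+* Γ(X, ⊤) := (Scheme.ΓSpecIso (CommRingCat.of L)).inv.hom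
  have hinv : IsUnit (p : Γ(X, ⊤)) := by rw [← map_natCast φ]; exact (IsUnit.mk0 _ hp).map φ
  haveI hepi : Epi (EtCoh.powMap X p) := Groth.Agent.S0108.result X p hinv
  have hS := EtSix.kummerShortExact (X := X) hepi
  haveI : Subsingleton (Ext (EtCoh.const X ℤ) (EtSix.kummerSC X p).X₂ 1) :=
    Misc3.KummerField.subsingleton_H1_Gm L
  refine subsingleton_of_forall_eq 0 fun x => ?_
  obtain ⟨y, rfl⟩ := Ext.covariant_sequence_exact₁ (EtCoh.const X ℤ) hS x (Subsingleton.elim _ _) (zero_add 1)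
  obtain ⟨g, rfl⟩ : ∃ g : EtCoh.const X ℤ ⟶ EtCoh.Gm X, Ext.mk₀ g = y := (Ext.mk₀_bijective _ _).2 y
  obtain ⟨h, hh⟩ : ∃ h : EtCoh.const X ℤ ⟶ EtCoh.Gm X, p • h = g := by
    let u : (Γ(X, ⊤))ˣ := ((EtMV.κ g : ULift.{u + 1} (Additive (Γ(X, ⊤))ˣ)).down).toMul
    obtain ⟨b, hb⟩ := hdiv ((Scheme.ΓSpecIso (CommRingCat.of L)).hom.hom u)
    have hb0 : b ≠ 0 := by
      rintro rfl
      rcases Nat.eq_zero_or_pos p with rfl | hp0
      · exact hp (by simp)
      · rw [zero_pow hp0.ne'] at hb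
        exact ((u.isUnit.map (Scheme.ΓSpecIso (CommRingCat.of L)).hom.hom).ne_zero) hb.symm
    let w : (Γ(X, ⊤))ˣ := Units.map φ.toMonoidHom (Units.mk0 b hb0)
    have hw : w ^ p = u := Units.ext (by
      show φ b ^ p = _
      rw [← map_pow, hb]
      exact CategoryTheory.Iso.hom_inv_id_apply (Scheme.ΓSpecIso (CommRingCat.of L)) (u : Γ(X, ⊤)))
    obtain ⟨h, hh⟩ := (EtMV.κ_bijective (EtCoh.Gm X)).2 (ULift.up (Additive.ofMul w))
    refine ⟨h, (EtMV.κ_bijective (EtCoh.Gm X)).1 ?_⟩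
    let κh : (EtCoh.const X ℤ ⟶ EtCoh.Gm X) →+ EtCoh.sect (EtCoh.Gm X) (EtCoh.top X) :=
      AddMonoidHom.mk' (fun ψ => EtMV.κ ψ) fun _ _ => rfl
    show κh (p • h) = EtMV.κ g
    rw [map_nsmul]
    show p • EtMV.κ h = _
    rw [hh]
    show ULift.up (p • Additive.ofMul w) = ULift.up (Additive.ofMul u)
    rw [← ofMul_pow, hw]
  have hg : g = h ≫ EtCoh.powMap X p := by
    rw [EtCoh.powMap, Preadditive.comp_nsmul, Category.comp_id, hh]
  rw [hg]
  have e1 : (Ext.mk₀ (h ≫ EtCoh.powMap X p)) = (Ext.mk₀ h).comp (Ext.mk₀ (EtSix.kummerSC X p).g) (add_zero 0) :=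
    (Ext.mk₀_comp_mk₀ _ _).symm
  rw [e1]
  exact (Ext.comp_assoc _ _ _ _ _ (by omega)).trans (by rw [hS.comp_extClass, Ext.comp_zero])

/-- **divisible units in all finite separable extensions: `cd_p = 0`** -/
theorem kVanOn_zero_of_divisible (p : ℕ) [hpp : Fact p.Prime] (k : Type u) [Field k] (hp : (p : k) ≠ 0) (ζ : k)
    (hζ : IsPrimitiveRoot ζ p)
    (h : ∀ (L : Type u) [Field L] [Algebra k L] [FiniteDimensional k L] [Algebra.IsSeparable k L],
      ∀ a : L, ∃ b, b ^ p = a) :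
    EtPBC.KVanOn {p} (Spec (CommRingCat.of k)) 0 := by
  have hN : EtPBC.NormSurj p k := by
    intro K _ _ _ _ L _ _ _ _ hdeg x _
    obtain ⟨b, hb⟩ := h K x
    exact ⟨algebraMap K L b, by rw [Algebra.norm_algebraMap, hdeg, hb]⟩
  refine EtPBC.kVanOn_of_zmodAcyclicFrom p 0 k fun L _ _ _ _ q hq => ?_
  rcases (Nat.succ_le_of_lt hq).eq_or_lt with h1 | h1
  · obtain rfl : q = 1 := h1.symm
    let X := Spec (CommRingCat.of L)
    have hpL : (p : L) ≠ 0 := by rw [← map_natCast (algebraMap k L)]; exact (map_ne_zero _).2 hp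
    let φ : k →+* Γ(X, ⊤) := (Scheme.ΓSpecIso (CommRingCat.of L)).inv.hom.comp (algebraMap k L)
    have hunit : IsUnit (p : Γ(X, ⊤)) := by rw [← map_natCast φ]; exact (IsUnit.mk0 _ hp).map φ
    have hcyc : Polynomial.aeval (φ ζ) (Polynomial.cyclotomic p ℤ) = 0 := by
      have h2 := hζ.isRoot_cyclotomic hpp.out.pos
      rw [Polynomial.IsRoot, ← Polynomial.map_cyclotomic_int, Polynomial.eval_map, ← algebraMap_int_eq,
        ← Polynomial.aeval_def] at h2
      rw [show φ ζ = φ.toIntAlgHom ζ from rfl, Polynomial.aeval_algHom_apply, h2, map_zero]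
    obtain ⟨e⟩ := KummerLib.nonempty_mu_iso_const (X := X) (n := p) hpp.out.one_le hunit (φ ζ) hcyc
    exact EtPBC.subsingleton_H_congr e.symm _ (subsingleton_H_one_mu L p hpL (h L))
  · exact EtPBC.zmodAcyclic_of_normSurj p k hp hN ζ hζ L q h1

end Groth.Agent.NearCyc
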