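import Groth.Agent.NearCyc.TameBase
import Groth.Agent.NearCyc.Divisible
import Groth.Agent.DeltaBC.Tensor
import Mathlib

/-! The geometric generic fibre of an unramified extension of strictly henselian discrete valuation rings. -/

set_option autoImplicit false
set_option backward.isDefEq.respectTransparency false
set_option backward.isDefEq.respectTransparency.types false
set_option linter.style.haveILetI false
set_option maxHeartbeats 1000000

universe u

open IsLocalRing AlgebraicGeometry
open scoped TensorProduct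

noncomputable section

namespace Groth.Agent.NearCyc

/-- reduced algebras integral over a field are von Neumann regular -/
theorem exists_sq_mul_of_isIntegral {k A : Type u} [Field k] [CommRing A] [IsReduced A] [Algebra k A]
    [Algebra.IsIntegral k A] (a : A) : ∃ b, a * a * b = a := by
  obtain ⟨P, hP, hPa⟩ := Algebra.IsIntegral.isIntegral (R := k) a
  obtain ⟨j, q, rfl, hq⟩ : ∃ (j : ℕ) (q : Polynomial k), P = Polynomial.X ^ j * q ∧ q.coeff 0 ≠ 0 := by
    obtain ⟨q, hq, hq'⟩ := Polynomial.exists_eq_pow_rootMultiplicity_mul_and_not_dvd P hP.ne_zero 0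
    rw [map_zero, sub_zero] at hq hq'
    exact ⟨_, q, hq, fun h => hq' (Polynomial.X_dvd_iff.2 h)⟩
  let t := Polynomial.aeval a q
  have h0 : a * t = 0 := IsNilpotent.eq_zero ⟨j + 1, by
    change Polynomial.aeval a (Polynomial.X ^ j * q) = 0 at hPa
    rw [map_mul, map_pow, Polynomial.aeval_X] at hPa
    rw [show (a * t) ^ (j + 1) = a ^ j * t * (a * t ^ j) by ring, hPa, zero_mul]⟩
  obtain ⟨r, hr⟩ : ∃ r, q = Polynomial.C (q.coeff 0) + Polynomial.X * r :=
    ⟨q.divX, by rw [add_comm]; exact (Polynomial.X_mul_divX_add q).symm⟩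
  refine ⟨-(algebraMap k A (q.coeff 0)⁻¹ * Polynomial.aeval a r), ?_⟩
  have h1 : a * algebraMap k A (q.coeff 0) + a * a * Polynomial.aeval a r = 0 := by
    rw [← h0]
    simp only [t]
    conv_rhs => rw [hr, map_add, map_mul, Polynomial.aeval_C, Polynomial.aeval_X]
    ring
  have h2 : algebraMap k A (q.coeff 0)⁻¹ * algebraMap k A (q.coeff 0) = 1 := by
    rw [← map_mul, inv_mul_cancel₀ hq, map_one]
  linear_combination (-algebraMap k A (q.coeff 0)⁻¹) * h1 + a * h2

variable {R Ω R' : Type u} [CommRing R] [Field Ω] [Algebra R Ω] [CommRing R'] [IsDomain R'] [IsDiscreteValuationRing R'] [Algebra R R']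
  (π : R)

/-- nonzero elements become invertible -/
theorem isUnit_tensor_of_ne_zero (hπ : Irreducible (algebraMap R R' π)) (h0 : algebraMap R Ω π ≠ 0) {a : R'} (ha : a ≠ 0) :
    IsUnit (a ⊗ₜ[R] (1 : Ω)) := by
  obtain ⟨n, u, rfl⟩ := IsDiscreteValuationRing.eq_unit_mul_pow_irreducible ha hπ
  have h1 : IsUnit ((algebraMap R R' π) ⊗ₜ[R] (1 : Ω)) := by
    rw [show (algebraMap R R' π) ⊗ₜ[R] (1 : Ω) = (1 : R') ⊗ₜ[R] algebraMap R Ω π by
      rw [Algebra.algebraMap_eq_smul_one, Algebra.algebraMap_eq_smul_one, TensorProduct.smul_tmul]]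
    exact (isUnit_iff_ne_zero.2 h0).map (Algebra.TensorProduct.includeRight (R := R) (A := R') (B := Ω))
  rw [show ((u : R') * algebraMap R R' π ^ n) ⊗ₜ[R] (1 : Ω) =
    (Algebra.TensorProduct.includeLeftRingHom : R' →+* R' ⊗[R] Ω) (u * algebraMap R R' π ^ n) from rfl, map_mul, map_pow]
  exact (u.isUnit.map _).mul (h1.pow n)

variable (K : Type u) [Field K] [Algebra R K] [IsFractionRing R K] [Algebra K Ω] [IsScalarTower R K Ω]
  [HenselianLocalRing R'] [IsSepClosed (ResidueField R')] [IsSepClosed Ω] [Algebra.IsSeparable K Ω]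

include K

set_option synthInstance.maxHeartbeats 200000 in
/-- **the geometric generic fibre is a field of vanishing cohomological dimension** -/
theorem exists_field_tensor (hπ : Irreducible (algebraMap R R' π))
    (hconn : ConnectedSpace (PrimeSpectrum (R' ⊗[R] Ω))) (p : ℕ) [Fact p.Prime] (hp : IsUnit (p : R')) :
    ∃ (hF : IsField (R' ⊗[R] Ω)) (φ : FractionRing R' →+* R' ⊗[R] Ω), φ.IsIntegral ∧
      φ.comp (algebraMap R' (FractionRing R')) = Algebra.TensorProduct.includeLeftRingHom ∧
      (letI := hF.toField; EtPBC.KVanOn {p} (Spec (CommRingCat.of (R' ⊗[R] Ω))) 0) := by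
  let K' := FractionRing R'
  let F := R' ⊗[R] Ω
  have hinj : Function.Injective (algebraMap R R') := by
    intro x y h
    by_contra hne
    obtain ⟨n, hn⟩ : ∃ z : R, z ≠ 0 ∧ algebraMap R R' z = 0 := ⟨x - y, sub_ne_zero.2 hne, by rw [map_sub, h, sub_self]⟩
    have h0 : (0 : R' ⊗[R] Ω) = 1 := by
      have h1 : algebraMap R Ω n ≠ 0 := by
        rw [IsScalarTower.algebraMap_apply R K Ω]
        exact (map_ne_zero _).2 ((map_ne_zero_iff _ (IsFractionRing.injective R K)).2 hn.1)
      have h2 : ((algebraMap R R' n) ⊗ₜ[R] (algebraMap R Ω n)⁻¹ : R' ⊗[R] Ω) = 1 := by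
        rw [Algebra.algebraMap_eq_smul_one, TensorProduct.smul_tmul, Algebra.smul_def, mul_inv_cancel₀ h1,
          Algebra.TensorProduct.one_def]
      rw [← h2, hn.2, TensorProduct.zero_tmul]
    haveI := subsingleton_of_zero_eq_one h0
    obtain ⟨q⟩ := hconn.toNonempty
    exact q.isPrime.ne_top (Subsingleton.elim _ _)
  let ι : K →+* K' := IsFractionRing.lift (g := (algebraMap R' K').comp (algebraMap R R'))
    ((IsFractionRing.injective R' K').comp hinj)
  letI : Algebra K K' := ι.toAlgebra
  haveI : IsScalarTower R K K' := IsScalarTower.of_algebraMap_eq fun a => (IsFractionRing.lift_algebraMap _ a).symm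
  let inl : R' →+* F := Algebra.TensorProduct.includeLeftRingHom
  let inr : Ω →+* F := (Algebra.TensorProduct.includeRight (R := R) (A := R') (B := Ω)).toRingHom
  let j : K' →+* F := IsLocalization.lift (M := nonZeroDivisors R') (g := inl)
    fun a => isUnit_tensor_of_ne_zero π hπ (by
      rw [IsScalarTower.algebraMap_apply R K Ω]
      exact (map_ne_zero _).2 ((map_ne_zero_iff _ (IsFractionRing.injective R K)).2
        (fun h => hπ.ne_zero (by rw [h, map_zero])))) (nonZeroDivisors.coe_ne_zero a)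
  letI : Algebra K' F := j.toAlgebra
  haveI : IsScalarTower R' K' F := IsScalarTower.of_algebraMap_eq fun a => (IsLocalization.lift_eq _ a).symm
  letI : Algebra K F := (inr.comp (algebraMap K Ω)).toAlgebra
  have hjK : ∀ c : K, j (ι c) = inr (algebraMap K Ω c) := by
    have : j.comp ι = inr.comp (algebraMap K Ω) := IsLocalization.ringHom_ext (nonZeroDivisors R) (RingHom.ext fun a => by
      show j (ι (algebraMap R K a)) = inr (algebraMap K Ω (algebraMap R K a))
      rw [IsFractionRing.lift_algebraMap, ← IsScalarTower.algebraMap_apply R K Ω]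
      show j (algebraMap R' K' (algebraMap R R' a)) = _
      rw [IsLocalization.lift_eq]
      show (algebraMap R R' a) ⊗ₜ[R] (1 : Ω) = (1 : R') ⊗ₜ[R] algebraMap R Ω a
      rw [Algebra.algebraMap_eq_smul_one, Algebra.algebraMap_eq_smul_one, TensorProduct.smul_tmul])
    exact fun c => RingHom.congr_fun this c
  haveI : IsScalarTower K K' F := IsScalarTower.of_algebraMap_eq fun c => (hjK c).symm
  -- integrality
  haveI : Algebra.IsIntegral K' F := ⟨fun z => by
    induction z using TensorProduct.induction_on with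
    | zero => exact isIntegral_zero
    | add a c ha hc => exact ha.add hc
    | tmul a ω =>
      rw [show a ⊗ₜ[R] ω = algebraMap K' F (algebraMap R' K' a) * inr ω by
        rw [← IsScalarTower.algebraMap_apply R' K' F]
        show a ⊗ₜ[R] ω = a ⊗ₜ[R] (1 : Ω) * (1 : R') ⊗ₜ[R] ω
        rw [Algebra.TensorProduct.tmul_mul_tmul, mul_one, one_mul]]
      refine isIntegral_algebraMap.mul (IsIntegral.tower_top (R := K) ?_)
      exact (Algebra.IsIntegral.isIntegral (R := K) ω).map ({ inr with commutes' := fun _ => rfl } : Ω →ₐ[K] F)⟩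
  -- reducedness
  haveI : IsReduced (K' ⊗[K] Ω) := DeltaBC.isReduced_tensor_sep K Ω K'
  haveI : IsReduced F := by
    let φ : F →ₐ[R] K' ⊗[K] Ω := Algebra.TensorProduct.lift
      (((Algebra.TensorProduct.includeLeft (R := K) (S := K) (A := K') (B := Ω)).restrictScalars R).comp
        (IsScalarTower.toAlgHom R R' K'))
      ((Algebra.TensorProduct.includeRight (R := K) (A := K') (B := Ω)).restrictScalars R) fun _ _ => .all _ _
    let ψ : K' ⊗[K] Ω →ₐ[K] F := Algebra.TensorProduct.lift
      { j with commutes' := hjK } { inr with commutes' := fun _ => rfl } fun _ _ => .all _ _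
    refine isReduced_of_injective φ (Function.LeftInverse.injective (g := ψ) fun z => ?_)
    induction z using TensorProduct.induction_on with
    | zero => simp only [map_zero]
    | add a c ha hc => rw [map_add, map_add, ha, hc]
    | tmul a ω =>
      have e1 : φ (a ⊗ₜ[R] ω) = algebraMap R' K' a ⊗ₜ[K] ω := by
        show algebraMap R' K' a ⊗ₜ[K] (1 : Ω) * (1 : K') ⊗ₜ[K] ω = _
        rw [Algebra.TensorProduct.tmul_mul_tmul, mul_one, one_mul]
      rw [e1]
      show ψ (algebraMap R' K' a ⊗ₜ[K] ω) = a ⊗ₜ[R] ω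
      rw [Algebra.TensorProduct.lift_tmul]
      show j (algebraMap R' K' a) * inr ω = _
      rw [IsLocalization.lift_eq]
      show a ⊗ₜ[R] (1 : Ω) * (1 : R') ⊗ₜ[R] ω = _
      rw [Algebra.TensorProduct.tmul_mul_tmul, mul_one, one_mul]
  -- a field
  obtain ⟨q⟩ := hconn.toNonempty
  haveI : Nontrivial F := nontrivial_of_ne 0 1 fun h =>
    q.isPrime.ne_top ((Ideal.eq_top_iff_one _).2 (h ▸ q.asIdeal.zero_mem))
  have hidem : ∀ e : F, IsIdempotentElem e → e = 0 ∨ e = 1 := fun e he => by
    have hcl : IsClopen (PrimeSpectrum.basicOpen e : Set (PrimeSpectrum F)) := by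
      refine ⟨?_, (PrimeSpectrum.basicOpen e).2⟩
      rw [PrimeSpectrum.basicOpen_eq_zeroLocus_of_isIdempotentElem e he]
      exact PrimeSpectrum.isClosed_zeroLocus _
    rcases isClopen_iff.1 hcl with h | h
    · exact Or.inl (he.eq_zero_of_isNilpotent ((PrimeSpectrum.basicOpen_eq_bot_iff e).1 (TopologicalSpace.Opens.ext h)))
    · have hu : IsUnit e := by
        by_contra hne
        obtain ⟨m, hm, hem⟩ := exists_max_ideal_of_mem_nonunits hne
        have : (⟨m, hm.isPrime⟩ : PrimeSpectrum F) ∈ (PrimeSpectrum.basicOpen e : Set (PrimeSpectrum F)) := by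
          rw [h]; exact Set.mem_univ _
        exact (PrimeSpectrum.mem_basicOpen e _).1 this hem
      exact Or.inr (hu.mul_eq_left.1 he)
  have hfield : IsField F := ⟨exists_pair_ne F, mul_comm, fun {a} ha => by
    obtain ⟨b, hb⟩ := exists_sq_mul_of_isIntegral (k := K') a
    rcases hidem (a * b) (show a * b * (a * b) = a * b by linear_combination b * hb) with h | h
    · exact absurd (by linear_combination (-1 : F) * hb + a * h) ha
    · exact ⟨b, h⟩⟩
  refine ⟨hfield, j, algebraMap_isIntegral_iff.2 inferInstance, RingHom.ext fun a => IsLocalization.lift_eq _ a, ?_⟩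
  letI := hfield.toField
  have hΩ0 : (p : Ω) ≠ 0 := fun h0 => by
    have h2 := hp.map inl
    rw [map_natCast, ← map_natCast inr, h0, map_zero] at h2
    exact not_isUnit_zero h2
  haveI : NeZero (p : Ω) := ⟨hΩ0⟩
  obtain ⟨ζ, hζ⟩ : ∃ ζ : Ω, IsPrimitiveRoot ζ p := HasEnoughRootsOfUnity.exists_primitiveRoot Ω p
  refine kVanOn_zero_of_divisible p F (fun h0 => hΩ0 (inr.injective (by rw [map_natCast, map_zero]; exact h0)))
    (inr ζ) (hζ.map_of_injective inr.injective) fun L _ _ _ _ a => ?_
  letI : Algebra K' L := ((algebraMap F L).comp (algebraMap K' F)).toAlgebra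
  haveI : IsScalarTower K' F L := IsScalarTower.of_algebraMap_eq fun _ => rfl
  haveI : Algebra.IsIntegral K' L := Algebra.IsIntegral.trans F
  letI : Algebra R' L := ((algebraMap K' L).comp (algebraMap R' K')).toAlgebra
  haveI : IsScalarTower R' K' L := IsScalarTower.of_algebraMap_eq fun _ => rfl
  refine exists_pow_eq_algebraic (K' := K') p hp hπ (fun n => ?_) (fun n z hz => ?_) a
  · haveI : NeZero ((p ^ n : ℕ) : Ω) := ⟨by push_cast; exact pow_ne_zero _ hΩ0⟩
    obtain ⟨ρ, hρ⟩ := IsSepClosed.exists_pow_nat_eq (algebraMap R Ω π) (p ^ n)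
    refine ⟨algebraMap F L (inr ρ), ?_⟩
    rw [← map_pow, ← map_pow, hρ]
    show algebraMap F L (inr (algebraMap R Ω π)) = algebraMap F L (algebraMap K' F (algebraMap R' K' (algebraMap R R' π)))
    rw [← IsScalarTower.algebraMap_apply R' K' F]
    congr 1
    show (1 : R') ⊗ₜ[R] algebraMap R Ω π = (algebraMap R R' π) ⊗ₜ[R] (1 : Ω)
    rw [Algebra.algebraMap_eq_smul_one, Algebra.algebraMap_eq_smul_one, TensorProduct.smul_tmul]
  · haveI : NeZero (p ^ n) := ⟨pow_ne_zero _ (Fact.out : p.Prime).ne_zero⟩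
    haveI : NeZero ((p ^ n : ℕ) : Ω) := ⟨by push_cast; exact pow_ne_zero _ hΩ0⟩
    obtain ⟨ξ, hξ⟩ : ∃ ξ : Ω, IsPrimitiveRoot ξ (p ^ n) := HasEnoughRootsOfUnity.exists_primitiveRoot Ω (p ^ n)
    have hξ' : IsPrimitiveRoot (algebraMap F L (inr ξ)) (p ^ n) :=
      (hξ.map_of_injective inr.injective).map_of_injective (algebraMap F L).injective
    obtain ⟨i, -, hi⟩ := hξ'.eq_pow_of_pow_eq_one hz
    obtain ⟨w, hw⟩ := IsSepClosed.exists_pow_nat_eq (ξ ^ i) p
    exact ⟨algebraMap F L (inr w), by rw [← map_pow, ← map_pow, hw, map_pow, map_pow, hi]⟩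

end Groth.Agent.NearCyc
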