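import Groth.Agent.NearCyc.Param
import Groth.Agent.NearCyc.Dim
import Groth.Agent.NearCyc.TameField
import Groth.Agent.EtPBC.ConstKilled
import Mathlib

/-! Nearby cycles vanish above the dimension minus the dimension of the point. -/

set_option autoImplicit false
set_option backward.isDefEq.respectTransparency false
set_option backward.isDefEq.respectTransparency.types false
set_option linter.style.haveILetI false
set_option linter.overlappingInstances false
set_option linter.auxLemma false
set_option maxHeartbeats 1000000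
set_option synthInstance.maxHeartbeats 400000

universe u

open CategoryTheory CategoryTheory.Limits AlgebraicGeometry IsLocalRing
open scoped TensorProduct

noncomputable section

namespace Groth.Agent.NearCyc

attribute [local instance 100000] EtCoh.H._proof_1 Groth.Agent.EtMV.hext
attribute [local instance 200000] Groth.Agent.EtMV.hextAb

section Field

variable {V K F : Type u} [CommRing V] [Field K] [Algebra V K] [Field F] [Algebra K F]
  [Algebra.IsIntegral K F] [Algebra V F] [IsScalarTower V K F] {X : Scheme.{u}} (f : X ⟶ Spec (CommRingCat.of V))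
  [LocallyOfFiniteType f] (ℓ : ℕ)

/-- geometric generic fibres of affine étale schemes over a field of vanishing cohomological dimension -/
theorem kVanOn_stage {W : Scheme.{u}} (w : W ⟶ X) [Etale w] [IsAffine W] {n : ℕ}
    (hn : topologicalKrullDim ↥(pullback f (Spec.map (CommRingCat.ofHom (algebraMap V K)))) ≤ n)
    (hF : EtPBC.KVanOn {ℓ} (Spec (CommRingCat.of F)) 0) :
    EtPBC.KVanOn {ℓ} (pullback (w ≫ f) (Spec.map (CommRingCat.ofHom (algebraMap V F)))) n := by
  let gK := Spec.map (CommRingCat.ofHom (algebraMap V K))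
  let gam := Spec.map (CommRingCat.ofHom (algebraMap K F))
  have hcomp : Spec.map (CommRingCat.ofHom (algebraMap V F)) = gam ≫ gK := by
    rw [← Spec.map_comp, IsScalarTower.algebraMap_eq V K F]
    rfl
  haveI : IsIntegralHom gam := IsIntegralHom.SpecMap_iff.2 (algebraMap_isIntegral_iff.2 ‹_›)
  rw [hcomp]
  let c := pullback.snd (w ≫ f) (gam ≫ gK)
  haveI : LocallyOfFiniteType c := MorphismProperty.pullback_snd _ _ inferInstance
  haveI : IsAffine (pullback (w ≫ f) (gam ≫ gK)) := inferInstance
  simpa using EtPBC.kVanOn_of_sepClosure c hF fun Ω _ _ φ hφ => by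
    haveI : IsAffine (pullback c (Spec.map (CommRingCat.ofHom φ))) :=
      isAffine_of_isAffineHom (pullback.fst c (Spec.map (CommRingCat.ofHom φ)))
    exact (EtPBC.affVan n Ω _ (pullback.snd c _)
      (EtPBC.topologicalKrullDim_sepBase c ((dim_stage f w gK gam).trans hn) φ hφ)).on _

variable (x : X) (R : Type u) [CommRing R] [IsLocalRing R] [Algebra (X.presheaf.stalk x) R]
  [IsLocalHom (algebraMap (X.presheaf.stalk x) R)] [_root_.Hensel.IsStrictHenselization (X.presheaf.stalk x) R]

/-- vanishing over a field of vanishing cohomological dimension -/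
theorem subsingleton_H_above_field [QuasiCompact f] {n : ℕ}
    (hn : topologicalKrullDim ↥(pullback f (Spec.map (CommRingCat.ofHom (algebraMap V K)))) ≤ n)
    (hℓ : ℓ.Prime) (hF : EtPBC.KVanOn {ℓ} (Spec (CommRingCat.of F)) 0) {i : ℕ} (hi : n < i) :
    Subsingleton (EtCoh.H (pullback (Hens2.specOf X x R ≫ f) (Spec.map (CommRingCat.ofHom (algebraMap V F))))
      (EtCoh.const _ (ZMod ℓ)) i) := by
  haveI hS := ‹_root_.Hensel.IsStrictHenselization (X.presheaf.stalk x) R›
  haveI : HenselianLocalRing R := hS.henselian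
  haveI : IsSepClosed (IsLocalRing.ResidueField R) := hS.isSepClosure.1
  let gam := Spec.map (CommRingCat.ofHom (algebraMap V F))
  let I := EtStrictLoc.Idx X x R
  let E := EtStrictLoc.diag X x R
  let c := EtStrictLoc.cone X x R
  let α : E ⟶ (Functor.const I).obj (Spec (CommRingCat.of V)) :=
    { app := fun a => a.nhd.et.hom ≫ f
      naturality := fun a b h => by
        refine (Eq.trans ?_ (Category.comp_id _).symm)
        exact (Category.assoc _ _ _).symm.trans (congrArg (· ≫ f)
          (MorphismProperty.Over.w ((Scheme.AffineEtale.Spec X).map (EtStrictLoc.Idx.nhdMap h).1))) }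
  have hg : ∀ a, c.π.app a ≫ α.app a = Hens2.specOf X x R ≫ f := fun a => by
    show Spec.map a.nhd.ev ≫ a.nhd.et.hom ≫ f = _
    rw [a.nhd.spec_ev, ← Category.assoc, a.nhd.sec_w]
  let g := Hens2.specOf X x R ≫ f
  haveI : IsConnected I := IsCofiltered.isConnected _
  haveI : ∀ a, IsAffine (E.obj a) := fun a => inferInstanceAs (IsAffine (Spec _))
  haveI : ∀ {a b : I} (h : a ⟶ b), IsAffineHom ((LAcyc.fibSys α gam).map h) := fun h => inferInstance
  obtain ⟨hP⟩ := EtBCQ.nonempty_isLimit_pbCone α ((Functor.const I).map gam) (cT := c)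
    (cS := constCone I (Spec (CommRingCat.of V))) (cB := constCone I (Spec (CommRingCat.of F))) g gam
    (fun a => (Category.comp_id g).trans (hg a).symm)
    (fun a => (Category.comp_id gam).trans (Category.id_comp gam).symm) (pullback.fst g gam) (pullback.snd g gam)
    (EtStrictLoc.isLimitCone X x R) (isLimitConstCone I _) (isLimitConstCone I _) (IsPullback.of_hasPullback g gam)
  refine LAcyc.subsingleton_const_limit hP (fun a => pullback.snd (α.app a) gam) (fun h => ?_) (pullback.snd g gam)
    (fun a => EtBCQ.pbCone_snd α ((Functor.const I).map gam) _ _ _ _ _ _ _ a |>.trans (Category.comp_id _)) (ZMod ℓ) i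
    fun a => ⟨a, 𝟙 a, ?_⟩
  · exact (pullback.lift_snd _ _ _).trans (Category.comp_id _)
  · haveI : IsAffine ((𝟭 Scheme).obj a.nhd.et.left) := (inferInstance : IsAffine (Spec a.nhd.1.left.unop))
    exact kVanOn_stage f ℓ a.nhd.et.hom hn hF ℓ
      ⟨hℓ.pos, fun p hp hd => Set.mem_singleton_iff.2 ((Nat.prime_dvd_prime_iff_eq hp hℓ).1 hd)⟩ _
      (EtPBC.killed_const _ ℓ) i hi

end Field

section Dimension

variable {k : Type u} [Field k] {S X : Scheme.{u}} (f : X ⟶ S) (g : Spec (CommRingCat.of k) ⟶ S) [IsClosedImmersion g]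

/-- the closure of a point of a closed fibre has at most the transcendence degree as dimension -/
theorem dim_closure_le_trdg [LocallyOfFiniteType f] (z : ↥(pullback f g)) {d : ℕ}
    (hd : EtPBC.trdg (EtPBC.kStr (pullback.snd f g) z) = d) :
    topologicalKrullDim ↥(closure ({(pullback.fst f g) z} : Set X)) ≤ d := by
  haveI : LocallyOfFiniteType (pullback.snd f g) := MorphismProperty.pullback_snd _ _ inferInstance
  haveI : IsClosedImmersion (pullback.fst f g) := MorphismProperty.pullback_fst _ _ ‹_›
  have hc : Topology.IsClosedEmbedding (pullback.fst f g) := (pullback.fst f g).isClosedEmbedding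
  have hsub : closure ({(pullback.fst f g) z} : Set X) ⊆ Set.range (pullback.fst f g) :=
    closure_minimal (Set.singleton_subset_iff.2 ⟨z, rfl⟩) hc.isClosed_range
  haveI : QuasiSober ↥(closure ({(pullback.fst f g) z} : Set X)) :=
    (Topology.IsClosedEmbedding.subtypeVal isClosed_closure).quasiSober
  refine Unibranch.topologicalKrullDim_le_natCast fun j c hc' => ?_
  choose e he using fun i => hsub (c i).2
  choose t ht using fun i => EtPBC.exists_trdg_eq (pullback.snd f g) (e i)
  have hlt : ∀ i : Fin j, t i.succ < t i.castSucc := fun i => by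
    have h1 : e i.castSucc ⤳ e i.succ := hc.toIsEmbedding.toIsInducing.specializes_iff.1 (by
      rw [he, he]; exact (hc' i).1.map continuous_subtype_val)
    have h2 : e i.castSucc ≠ e i.succ := fun h => (hc' i).2 (Subtype.ext (by rw [← he, ← he, h]))
    have h3 := EtPBC.trdg_lt_of_specializes (pullback.snd f g) h1 h2
    rw [(ht i.castSucc).1, (ht i.succ).1] at h3
    exact Nat.cast_lt.1 h3
  have h0 : t 0 ≤ d := by
    have h1 : z ⤳ e 0 := hc.toIsEmbedding.toIsInducing.specializes_iff.1 (by
      rw [he]; exact specializes_iff_mem_closure.2 (c 0).2)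
    rcases eq_or_ne z (e 0) with h | h
    · have h1 := (ht 0).1
      rw [← h, hd] at h1
      exact le_of_eq (Nat.cast_inj.1 h1).symm
    · have h3 := EtPBC.trdg_lt_of_specializes (pullback.snd f g) h1 h
      rw [(ht 0).1, hd] at h3
      exact (Nat.cast_lt.1 h3).le
  have key : ∀ (i : ℕ) (hi : i < j + 1), t ⟨i, hi⟩ + i ≤ d := by
    intro i
    induction i with
    | zero => intro hi; simpa using h0
    | succ i ih =>
      intro hi
      have h1 := hlt ⟨i, by omega⟩
      have h2 := ih (by omega)
      simp only [Fin.succ_mk, Fin.castSucc_mk] at h1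
      omega
  have := key j (by omega)
  omega

end Dimension

variable {V K Ω : Type u} [CommRing V] [IsDomain V] [IsDiscreteValuationRing V] [HenselianLocalRing V]
  [IsSepClosed (ResidueField V)] [Field K] [Algebra V K] [IsFractionRing V K] [Field Ω] [IsSepClosed Ω]
  [Algebra K Ω] [Algebra.IsSeparable K Ω] [Algebra V Ω] [IsScalarTower V K Ω] {X : Scheme.{u}}
  (f : X ⟶ Spec (CommRingCat.of V)) [LocallyOfFiniteType f]

/-- **nearby cycles vanish above the dimension minus the dimension of the point** -/
theorem subsingleton_H_above_sub {x : X} (hx : f x = closedPoint V) (A : Type u) [CommRing A] [IsLocalRing A]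
    [Algebra (X.presheaf.stalk x) A] [IsLocalHom (algebraMap (X.presheaf.stalk x) A)]
    [_root_.Hensel.IsStrictHenselization (X.presheaf.stalk x) A] {n k : ℕ}
    (hn : topologicalKrullDim ↥(pullback f (Spec.map (CommRingCat.ofHom (algebraMap V K)))) ≤ n)
    (hk : (k : WithBot ℕ∞) ≤ topologicalKrullDim ↥(closure ({x} : Set X))) (ℓ : ℕ) (hℓ : ℓ.Prime)
    (hℓV : (ℓ : ResidueField V) ≠ 0) {i : ℕ} (hi : n - k < i) :
    Subsingleton (EtCoh.H (pullback (Hens2.specOf X x A ≫ f) (Spec.map (CommRingCat.ofHom (algebraMap V Ω))))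
      (EtCoh.const _ (ZMod ℓ)) i) := by
  obtain ⟨U, hU, hxU, -⟩ := exists_isAffineOpen_mem_and_subset (x := x) (U := (⊤ : X.Opens)) trivial
  let j := hU.fromSpec
  obtain ⟨y, rfl⟩ : ∃ y, j y = x := by
    have : x ∈ Set.range hU.fromSpec := by rw [hU.range_fromSpec]; exact hxU
    exact this
  let B : Type u := Γ(X, U)
  let φ : V →+* B := (Spec.preimage (j ≫ f)).hom
  have hφ : Spec.map (CommRingCat.ofHom φ) = j ≫ f := Spec.map_preimage _
  letI : Algebra V B := φ.toAlgebra
  haveI : Algebra.FiniteType V B := by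
    haveI : LocallyOfFiniteType (Spec.map (CommRingCat.ofHom φ)) := by rw [hφ]; infer_instance
    exact (HasRingHomProperty.Spec_iff (P := @LocallyOfFiniteType)).1 ‹_›
  -- the strict localisation on the chart
  let e := (asIso (j.stalkMap y)).commRingCatIsoToRingEquiv
  letI : Algebra (X.presheaf.stalk (j y)) ((Spec (CommRingCat.of B)).presheaf.stalk y) := e.toRingHom.toAlgebra
  letI alg : Algebra ((Spec (CommRingCat.of B)).presheaf.stalk y) A :=
    ((algebraMap (X.presheaf.stalk (j y)) A).comp e.symm.toRingHom).toAlgebra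
  haveI : IsLocalHom e.symm.toRingHom := ⟨fun a ha => (isUnit_map_iff e.symm a).1 ha⟩
  haveI : IsLocalHom (algebraMap ((Spec (CommRingCat.of B)).presheaf.stalk y) A) := RingHom.isLocalHom_comp _ _
  haveI := isStrictHenselization_of_equiv (O := X.presheaf.stalk (j y)) (R := A) e.symm rfl
  have hspec : Hens2.specOf (Spec (CommRingCat.of B)) y A ≫ j = Hens2.specOf X (j y) A := by
    show (Spec.map (CommRingCat.ofHom ((algebraMap (X.presheaf.stalk (j y)) A).comp e.symm.toRingHom)) ≫
      (Spec (CommRingCat.of B)).fromSpecStalk y) ≫ j = Spec.map _ ≫ X.fromSpecStalk (j y)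
    rw [Category.assoc, ← Scheme.SpecMap_stalkMap_fromSpecStalk, ← Category.assoc, ← Spec.map_comp]
    refine congrArg (fun a => Spec.map a ≫ X.fromSpecStalk (j y)) (CommRingCat.hom_ext (RingHom.ext fun a => ?_))
    show algebraMap _ A (e.symm (e a)) = algebraMap _ A a
    rw [e.symm_apply_apply]
    rfl
  have hy : maximalIdeal V ≤ y.asIdeal.comap (algebraMap V B) := by
    have h1 : (Spec.map (CommRingCat.ofHom φ)) y = closedPoint V := by rw [hφ]; exact hx
    exact (congrArg PrimeSpectrum.asIdeal h1).ge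
  -- the parameters
  let κ := ResidueField V
  let D := κ ⊗[V] B
  let δ : κ →+* B ⧸ y.asIdeal := Ideal.Quotient.lift (maximalIdeal V)
    ((Ideal.Quotient.mk y.asIdeal).comp (algebraMap V B)) fun a ha => Ideal.Quotient.eq_zero_iff_mem.2 (hy ha)
  letI : Algebra κ (B ⧸ y.asIdeal) := δ.toAlgebra
  haveI : IsScalarTower V κ (B ⧸ y.asIdeal) := IsScalarTower.of_algebraMap_eq fun _ => rfl
  let π : D →ₐ[κ] B ⧸ y.asIdeal := Algebra.TensorProduct.lift (Algebra.ofId κ _)
    (Ideal.Quotient.mkₐ V y.asIdeal) fun _ _ => .all _ _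
  let z : Spec (CommRingCat.of D) := ⟨RingHom.ker π.toRingHom, RingHom.ker_isPrime _⟩
  let incl : B →+* D := (Algebra.TensorProduct.includeRight (R := V) (A := κ) (B := B)).toRingHom
  have hπincl : ∀ b, π (incl b) = Ideal.Quotient.mk y.asIdeal b := fun b => by
    show Algebra.TensorProduct.lift _ _ _ ((1 : κ) ⊗ₜ[V] b) = _
    rw [Algebra.TensorProduct.lift_tmul, map_one, one_mul]
    rfl
  have hzy : (Spec.map (CommRingCat.ofHom incl)) z = y := PrimeSpectrum.ext (Ideal.ext fun b => by
    show π (incl b) = 0 ↔ _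
    rw [hπincl, Ideal.Quotient.eq_zero_iff_mem])
  let gκ := Spec.map (CommRingCat.ofHom (algebraMap V κ))
  let cD := Spec.map (CommRingCat.ofHom (algebraMap κ D))
  have hsq : (Spec.map (CommRingCat.ofHom incl) ≫ j) ≫ f = cD ≫ gκ := by
    rw [Category.assoc, ← hφ, ← Spec.map_comp, ← Spec.map_comp]
    refine congrArg Spec.map (CommRingCat.hom_ext (RingHom.ext fun v => ?_))
    exact (Algebra.TensorProduct.includeRight (R := V) (A := κ) (B := B)).commutes v |>.trans
      (IsScalarTower.algebraMap_apply V κ D v)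
  let q := pullback.lift (Spec.map (CommRingCat.ofHom incl) ≫ j) cD hsq
  haveI : IsClosedImmersion gκ := IsClosedImmersion.spec_of_surjective _ residue_surjective
  obtain ⟨r, hr⟩ : ∃ r : ℕ, EtPBC.trdg (EtPBC.kStr cD z) = r := by
    haveI : LocallyOfFiniteType cD := (HasRingHomProperty.Spec_iff (P := @LocallyOfFiniteType)).2
      (RingHom.finiteType_algebraMap.2 (inferInstance : Algebra.FiniteType κ D))
    obtain ⟨r, hr, -⟩ := EtPBC.exists_trdg_eq cD z
    exact ⟨r, hr⟩
  have hkr : k ≤ r := by
    haveI : LocallyOfFiniteType (pullback.snd f gκ) := MorphismProperty.pullback_snd _ _ inferInstance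
    obtain ⟨d, hd, -⟩ := EtPBC.exists_trdg_eq (pullback.snd f gκ) (q z)
    have h1 : EtPBC.kStr cD z = (q.residueFieldMap z).hom.comp (EtPBC.kStr (pullback.snd f gκ) (q z)) := by
      have h0 : CommRingCat.ofHom (EtPBC.kStr cD z) =
          CommRingCat.ofHom (EtPBC.kStr (pullback.snd f gκ) (q z)) ≫ q.residueFieldMap z := by
        apply Spec.map_injective
        refine (EtPBC.kStr_spec cD z).trans ?_
        rw [Spec.map_comp]
        refine Eq.trans ?_ (congrArg (Spec.map (q.residueFieldMap z) ≫ ·) (EtPBC.kStr_spec (pullback.snd f gκ) (q z))).symm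
        rw [Scheme.Hom.SpecMap_residueFieldMap_fromSpecResidueField_assoc, pullback.lift_snd]
      exact congrArg CommRingCat.Hom.hom h0
    rw [h1, ← EtPBC.trdg_comp, hd] at hr
    have h2 : d ≤ r := Nat.cast_le.1 (hr ▸ le_self_add)
    have h3 := dim_closure_le_trdg f gκ (q z) hd
    have h4 : (pullback.fst f gκ) (q z) = j y := by
      rw [← Scheme.Hom.comp_apply, pullback.lift_fst, Scheme.Hom.comp_apply, hzy]
      rfl
    rw [h4] at h3
    exact (Nat.cast_le.1 (hk.trans h3)).trans h2
  obtain ⟨b', hb'⟩ := EtPBC.exists_indep_eq D z hr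
  have hsurj : Function.Surjective incl := fun w => by
    induction w using TensorProduct.induction_on with
    | zero => exact ⟨0, map_zero _⟩
    | add a c ha hc => obtain ⟨⟨a', rfl⟩, ⟨c', rfl⟩⟩ := ha, hc; exact ⟨a' + c', map_add _ _ _⟩
    | tmul c b =>
      obtain ⟨v, rfl⟩ := residue_surjective c
      refine ⟨v • b, ?_⟩
      show (1 : κ) ⊗ₜ[V] (v • b) = residue V v ⊗ₜ[V] b
      rw [← TensorProduct.smul_tmul, ← Algebra.algebraMap_eq_smul_one]
      rfl
  choose b hb using fun i : Fin r => hsurj (b' i)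
  let π' : D ⧸ z.asIdeal →ₐ[κ] B ⧸ y.asIdeal := Ideal.Quotient.liftₐ z.asIdeal π fun a ha => ha
  have hπ' : Function.Injective π' := RingHom.kerLift_injective π.toRingHom
  have hind : Function.Injective (MvPolynomial.eval₂Hom δ fun i => Ideal.Quotient.mk y.asIdeal (b (Fin.castLE hkr i))) := by
    have h1 := ((hb'.comp (Fin.castLE hkr) (Fin.castLE_injective hkr)).map' (f := π') hπ')
    have h2 : (fun i => Ideal.Quotient.mk y.asIdeal (b (Fin.castLE hkr i))) =
        π' ∘ ((fun i => Ideal.Quotient.mk z.asIdeal (b' i)) ∘ Fin.castLE hkr) := funext fun i => by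
      show _ = π (b' (Fin.castLE hkr i))
      rw [← hb, hπincl]
    rw [h2]
    exact h1
  obtain ⟨R', _, _, _, _, _, algR', C, _, jC, inr, hft, x', algA, hlA, hshA, hπ, hjC, hcompat, hconn, hdim⟩ :=
    exists_param B y hy A (fun i => b (Fin.castLE hkr i)) hind
  letI := algR'
  letI := algA
  haveI := hlA
  haveI := hshA
  obtain ⟨ϖ, hϖ⟩ := IsDiscreteValuationRing.exists_irreducible V
  haveI : Fact ℓ.Prime := ⟨hℓ⟩
  have hℓR : IsUnit (ℓ : R') := by
    have h1 : IsUnit (ℓ : V) := notMem_maximalIdeal.1 fun h => hℓV (by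
      rw [← map_natCast (residue V)]; exact Ideal.Quotient.eq_zero_iff_mem.2 h)
    simpa using h1.map (algebraMap V R')
  obtain ⟨hF, φF, hφint, hφF, hvan⟩ := exists_field_tensor ϖ K (R' := R') (Ω := Ω) (hπ ϖ hϖ) (hconn Ω) ℓ hℓR
  let F := R' ⊗[V] Ω
  letI := hF.toField
  letI : Algebra (FractionRing R') F := φF.toAlgebra
  haveI : Algebra.IsIntegral (FractionRing R') F := algebraMap_isIntegral_iff.1 hφint
  haveI : IsScalarTower R' (FractionRing R') F :=
    IsScalarTower.of_algebraMap_eq fun a => (RingHom.congr_fun hφF a).symm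
  haveI : LocallyOfFiniteType (Spec.map (CommRingCat.ofHom inr)) :=
    (HasRingHomProperty.Spec_iff (P := @LocallyOfFiniteType)).2 hft
  have hnB : topologicalKrullDim ↥(pullback (Spec.map (CommRingCat.ofHom (algebraMap V B)))
      (Spec.map (CommRingCat.ofHom (algebraMap V K)))) ≤ n := by
    refine le_trans (dim_le_of_locallyQuasiFinite (pullback.map (Spec.map (CommRingCat.ofHom (algebraMap V B))) _ f _ j
      (𝟙 _) (𝟙 _) (by rw [Category.comp_id]; exact hφ) (by simp))) hn
  have h := subsingleton_H_above_field (V := R') (K := FractionRing R') (F := F) (Spec.map (CommRingCat.ofHom inr)) ℓ x' A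
    (hdim K (FractionRing R') n hnB) hℓ hvan hi
  let ιR := Spec.map (CommRingCat.ofHom (algebraMap V R'))
  let gam := Spec.map (CommRingCat.ofHom (algebraMap V Ω))
  have hstr : (Hens2.specOf (Spec (CommRingCat.of C)) x' A ≫ Spec.map (CommRingCat.ofHom inr)) ≫ ιR =
      Hens2.specOf X (j y) A ≫ f := by
    have h1 : Spec.map (CommRingCat.ofHom inr) ≫ ιR = Spec.map (CommRingCat.ofHom jC) ≫ j ≫ f := by
      rw [← hφ, ← Spec.map_comp, ← Spec.map_comp]
      exact congrArg Spec.map (CommRingCat.hom_ext hjC.symm)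
    rw [← hspec, ← hcompat]
    exact (Category.assoc _ _ _).trans ((congrArg (Hens2.specOf (Spec (CommRingCat.of C)) x' A ≫ ·) h1).trans
      (by simp only [Category.assoc]))
  let e1 : pullback (Hens2.specOf (Spec (CommRingCat.of C)) x' A ≫ Spec.map (CommRingCat.ofHom inr))
      (Spec.map (CommRingCat.ofHom (algebraMap R' F))) ≅ pullback (Hens2.specOf X (j y) A ≫ f) gam :=
    asIso (pullback.map _ _ (Hens2.specOf (Spec (CommRingCat.of C)) x' A ≫ Spec.map (CommRingCat.ofHom inr))
        (pullback.fst ιR gam) (𝟙 _) (pullbackSpecIso V R' Ω).inv (𝟙 _) (by simp) (by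
          rw [Category.comp_id]; exact (pullbackSpecIso_inv_fst V R' Ω).symm)) ≪≫
      pullbackRightPullbackFstIso ιR gam _ ≪≫ pullback.congrHom hstr rfl
  exact (LAcyc.subsingleton_H_const_iff e1 (ZMod ℓ) i).1 h

end Groth.Agent.NearCyc
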