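import Groth.Agent.EtOpenBC.LocalAlg
import Groth.Agent.EtShLib.SmoothStrict
import Groth.Agent.LAcyc.GenAcyclic
import Groth.Agent.LAcyc.Smooth
import Groth.Agent.LAcyc.ConstCoeff
import Groth.Prelude.Def_SGA7I
import Mathlib

/-! The scheme computing the nearby cycles at a point, through strict localisations. -/

set_option autoImplicit false
set_option backward.isDefEq.respectTransparency false
set_option backward.isDefEq.respectTransparency.types false
set_option linter.style.haveILetI false

universe u

open CategoryTheory CategoryTheory.Limits AlgebraicGeometry IsLocalRing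

noncomputable section

namespace Groth.Agent.NearCyc

open EtBCQ

/-- strict henselisations transport along isomorphisms of the base -/
theorem isStrictHenselization_of_equiv {O O' R : Type u} [CommRing O] [IsLocalRing O] [CommRing O'] [IsLocalRing O']
    [CommRing R] [IsLocalRing R] [Algebra O R] [IsLocalHom (algebraMap O R)] [_root_.Hensel.IsStrictHenselization O R]
    [Algebra O' R] [IsLocalHom (algebraMap O' R)] (e : O' ≃+* O)
    (h : algebraMap O' R = (algebraMap O R).comp e.toRingHom) : _root_.Hensel.IsStrictHenselization O' R := by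
  have hS := ‹_root_.Hensel.IsStrictHenselization O R›
  let κ := ResidueField.mapEquiv e
  have hκ : ResidueField.map (algebraMap O' R) = (ResidueField.map (algebraMap O R)).comp κ.toRingHom := by
    refine Ideal.Quotient.ringHom_ext (RingHom.ext fun a => ?_)
    show residue R (algebraMap O' R a) = residue R (algebraMap O R (e a))
    rw [h]
    rfl
  haveI := hS.isSepClosure.2
  haveI := hS.isSepClosure.1
  refine ⟨hS.henselian, ⟨inferInstance, ?_⟩, fun T _ _ f _ τ hτ => ?_⟩
  · letI : Algebra (ResidueField O') (ResidueField O) := κ.toRingHom.toAlgebra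
    haveI : IsScalarTower (ResidueField O') (ResidueField O) (ResidueField R) :=
      IsScalarTower.of_algebraMap_eq fun a => RingHom.congr_fun hκ a
    haveI : Algebra.IsSeparable (ResidueField O') (ResidueField O) := ⟨fun y => by
      obtain ⟨z, rfl⟩ := κ.surjective y
      exact isSeparable_algebraMap (F := ResidueField O') (K := ResidueField O) z⟩
    exact Algebra.IsSeparable.trans (ResidueField O') (ResidueField O) (ResidueField R)
  · haveI : IsLocalHom (f.comp e.symm.toRingHom) := by
      haveI : IsLocalHom e.symm.toRingHom := ⟨fun a ha => (isUnit_map_iff e.symm a).1 ha⟩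
      exact RingHom.isLocalHom_comp _ _
    obtain ⟨g, ⟨hg, hg'⟩, huniq⟩ := hS.universal T (f.comp e.symm.toRingHom) τ (by
      refine Ideal.Quotient.ringHom_ext (RingHom.ext fun a => ?_)
      have := RingHom.congr_fun hτ (residue O' (e.symm a))
      rw [RingHom.comp_apply, RingHom.congr_fun hκ] at this
      have h2 : τ (residue R (algebraMap O R (e (e.symm a)))) = residue T (f (e.symm a)) := this
      rw [e.apply_symm_apply] at h2
      exact h2)
    refine ⟨g, ⟨RingHom.ext fun a => ?_, hg'⟩, fun g' hg'' => huniq g' ⟨RingHom.ext fun a => ?_, hg''.2⟩⟩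
    · rw [RingHom.comp_apply, h]
      exact (RingHom.congr_fun hg (e a)).trans (congrArg f (e.symm_apply_apply a))
    · refine Eq.trans ?_ (RingHom.congr_fun hg''.1 (e.symm a))
      rw [RingHom.comp_apply, RingHom.comp_apply, h]
      show g' (algebraMap O R a) = g' (algebraMap O R (e (e.symm a)))
      rw [e.apply_symm_apply]

/-- strict localisations of open subschemes -/
theorem exists_SH_opens {X : Scheme.{u}} (U : X.Opens) (x : U) (Q : SH X x.1) :
    ∃ (Q' : SH (U : Scheme.{u}) x) (e : Q'.R ≃+* Q.R),
      Spec.map (CommRingCat.ofHom e.toRingHom) ≫ Q'.spec ≫ U.ι = Q.spec := by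
  let ε : U.toScheme.presheaf.stalk x ≃+* X.presheaf.stalk x.1 :=
    (asIso (U.ι.stalkMap x)).symm.commRingCatIsoToRingEquiv
  letI : Algebra (U.toScheme.presheaf.stalk x) Q.R := ((algebraMap (X.presheaf.stalk x.1) Q.R).comp ε.toRingHom).toAlgebra
  haveI : IsLocalHom ε.toRingHom := ⟨fun a ha => (isUnit_map_iff ε a).1 ha⟩
  haveI : IsLocalHom (algebraMap (U.toScheme.presheaf.stalk x) Q.R) := RingHom.isLocalHom_comp _ _
  haveI := isStrictHenselization_of_equiv (O := X.presheaf.stalk x.1) (R := Q.R) ε rfl
  refine ⟨{ R := Q.R }, RingEquiv.refl _, ?_⟩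
  show Spec.map (𝟙 _) ≫ (Spec.map (CommRingCat.ofHom ((algebraMap (X.presheaf.stalk x.1) Q.R).comp ε.toRingHom)) ≫
    U.toScheme.fromSpecStalk x) ≫ U.ι = _
  rw [Spec.map_id, Category.id_comp, Category.assoc, ← Scheme.SpecMap_stalkMap_fromSpecStalk, ← Category.assoc,
    ← Spec.map_comp]
  refine congrArg (fun a => Spec.map a ≫ X.fromSpecStalk x.1) ?_
  ext a
  show algebraMap _ _ (ε ((U.ι.stalkMap x).hom a)) = algebraMap _ _ a
  exact congrArg _ (RingEquiv.apply_symm_apply ε a)

end Groth.Agent.NearCyc

namespace Groth.Agent.NearCyc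

open EtBCQ

variable {V : Type u} [CommRing V] [HenselianLocalRing V] [IsSepClosed (ResidueField V)] {X : Scheme.{u}}
  (f : X ⟶ Spec (CommRingCat.of V))

/-- the structure map of a strict localisation over a strictly henselian base -/
theorem exists_structure_hom {x : X} (hx : f.base x = closedPoint V) (Q : SH X x) :
    ∃ φ : V →+* Q.R, IsLocalHom φ ∧ Spec.map (CommRingCat.ofHom φ) = Q.spec ≫ f := by
  obtain ⟨φ, hφ, h⟩ := exists_strict_hom (EtOpenBC.selfSH V (closedPoint V) rfl) (Q.spec ≫ f) (by
    rw [Scheme.Hom.comp_apply]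
    exact (congrArg f Q.spec_closed).trans hx)
  exact ⟨φ, hφ, by rw [EtOpenBC.selfSH_spec] at h; exact (Category.comp_id _).symm.trans h⟩

/-- natural numbers invertible in the residue field of the base are invertible on the special fibre -/
theorem natCast_residueField_ne_zero {x : X} (hx : f.base x = closedPoint V) {m : ℕ}
    (hm : (m : ResidueField V) ≠ 0) : (m : X.residueField x) ≠ 0 := by
  obtain ⟨φ, hφ, -⟩ := exists_structure_hom f hx (mkSH X x)
  intro h
  refine hm ?_
  have hu : ¬ IsUnit (m : X.presheaf.stalk x) := fun hu => (hu.map (X.residue x).hom).ne_zero (by rw [map_natCast]; exact h)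
  have hu2 : ¬ IsUnit (m : (mkSH X x).R) := fun h2 =>
    hu (IsUnit.of_map (algebraMap (X.presheaf.stalk x) (mkSH X x).R) _ (by rw [map_natCast]; exact h2))
  rw [← map_natCast (residue V), residue_eq_zero_iff]
  exact fun h2 => hu2 (by simpa using h2.map φ)

variable [Smooth f] (Ω : Type u) [Field Ω]

/-- **nearby cycles at a smooth point are trivial** -/
theorem smooth_point {x : X} (hx : f.base x = closedPoint V) (Q : SH X x) [Algebra V Ω] [IsSepClosed Ω] {m : ℕ}
    (hm : (m : ResidueField V) ≠ 0) :
    ConnectedSpace ↥(pullback (Q.spec ≫ f) (Spec.map (CommRingCat.ofHom (algebraMap V Ω)))) ∧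
      ∀ i : ℕ, 0 < i → Subsingleton (EtCoh.H (pullback (Q.spec ≫ f) (Spec.map (CommRingCat.ofHom (algebraMap V Ω))))
        (EtCoh.const _ (ZMod m)) i) := by
  obtain ⟨φ, hφ, hspec⟩ := exists_structure_hom f hx Q
  let QV : SH (Spec (CommRingCat.of V)) (closedPoint V) := EtOpenBC.selfSH V (closedPoint V) rfl
  have hsp : Spec.map (CommRingCat.ofHom φ) ≫ QV.spec = Q.spec ≫ f := by
    rw [EtOpenBC.selfSH_spec, hspec]
    exact Category.comp_id _
  letI : Algebra QV.R Q.R := φ.toAlgebra
  haveI : IsLocalHom (algebraMap QV.R Q.R) := hφ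
  let γ := Spec.map (CommRingCat.ofHom (algebraMap V Ω))
  haveI := LAcyc.connected_fibres_smooth f QV Q hsp Ω γ
  let e : pullback (Spec.map (CommRingCat.ofHom φ)) γ ≅ pullback (Q.spec ≫ f) γ := pullback.congrHom hspec rfl
  haveI hconn : ConnectedSpace ↥(pullback (Q.spec ≫ f) γ) := e.hom.homeomorph.connectedSpace_iff.1 ‹_›
  refine ⟨hconn, fun i hi => LAcyc.subsingleton_H_zmod m (Nat.pos_of_ne_zero fun h => hm (by simp [h]))
    fun l hl hd => ?_⟩
  obtain ⟨r, hr⟩ := hd
  have hlm : (l : ResidueField V) ≠ 0 := fun h0 => hm (by rw [hr, Nat.cast_mul, h0, zero_mul])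
  have hunit : IsUnit (l : V) := by
    by_contra h1
    exact hlm (by rw [← map_natCast (residue V)]; exact (residue_eq_zero_iff _).2 h1)
  exact (LAcyc.subsingleton_H_const_iff e (ZMod l) i).1
    (LAcyc.fibre_vanish (LAcyc.ufib_smooth f QV Q φ hsp hl hunit i) Ω hl rfl hi le_rfl)

end Groth.Agent.NearCyc
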