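import Groth.Agent.EtAcycX.UnitIso
import Mathlib

/-! The edge map `H^k(Y, f_* G) → H^k(X, G)` in high degrees. -/

set_option autoImplicit false
set_option backward.isDefEq.respectTransparency false
set_option backward.isDefEq.respectTransparency.types false
set_option linter.unusedSectionVars false
set_option linter.auxLemma false
set_option linter.overlappingInstances false
set_option linter.style.haveILetI false
set_option maxHeartbeats 1000000

universe w w' v v' u u'

open CategoryTheory CategoryTheory.Limits CategoryTheory.Abelian AlgebraicGeometry Opposite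

noncomputable section

namespace Groth.Agent.NearCyc

open EtMV (T T_mk₀ T_comp U U_apply U_comp_mk₀ injSeq injSeq_shortExact)

section Generic

variable {A : Type u} [Category.{v} A] [Abelian A] {B : Type u'} [Category.{v'} B] [Abelian B] [EnoughInjectives A]
  [EnoughInjectives B] {L : B ⥤ A} {R : A ⥤ B} [R.Additive] (adj : L ⊣ R) [HasExt.{w} A] [HasExt.{w'} B]
  [L.Additive] [PreservesFiniteLimits L] [PreservesFiniteColimits L]

include adj in
/-- the two short exact sequences out of an injective embedding, with the connecting isomorphisms -/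
theorem exists_data (G : A) :
    ∃ (K : B) (π : R.obj (injSeq G).X₂ ⟶ K) (ι : K ⟶ R.obj (injSeq G).X₃) (w : R.map (injSeq G).f ≫ π = 0),
      (ShortComplex.mk (R.map (injSeq G).f) π w).ShortExact ∧ π ≫ ι = R.map (injSeq G).g ∧
      (∃ (p : R.obj (injSeq G).X₃ ⟶ (R.rightDerived 1).obj G) (hp : ι ≫ p = 0),
        (ShortComplex.mk ι p hp).ShortExact) ∧
      ∀ q : ℕ, Nonempty ((R.rightDerived (q + 1)).obj (injSeq G).X₃ ≅ (R.rightDerived (q + 1 + 1)).obj G) := by
  haveI : R.IsRightAdjoint := adj.isRightAdjoint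
  haveI : PreservesFiniteLimits R := inferInstance
  have hS := injSeq_shortExact G
  haveI := hS.mono_f
  have hRex : ((injSeq G).map R).Exact :=
    ShortComplex.exact_of_f_is_kernel _ (KernelFork.mapIsLimit _ hS.fIsKernel R)
  let S := injSeq G
  let w0 : R.map S.f ≫ R.map S.g = 0 := (S.map R).zero
  let π := cokernel.π (R.map S.f)
  let ι : cokernel (R.map S.f) ⟶ R.obj S.X₃ := cokernel.desc _ (R.map S.g) w0
  haveI : Mono ι := hRex.mono_cokernelDesc
  refine ⟨_, π, ι, cokernel.condition _,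
    { exact := ShortComplex.exact_of_g_is_cokernel _ (cokernelIsCokernel _) }, cokernel.π_desc _ _ w0, ?_,
    fun q => ?_⟩
  · let Rd := Groth.Agent.RDerLib.derivedLES R
    have hI : IsZero ((R.rightDerived 1).obj S.X₂) := R.isZero_rightDerived_obj_injective_succ 0 (injSeq G).X₂
    let η := fun Z : A => R.rightDerivedZeroIsoSelf.app Z
    let d : R.obj S.X₃ ⟶ (R.rightDerived 1).obj S.X₁ := (η _).inv ≫ Rd.δ S hS 0 1 rfl
    haveI : Epi d := by
      haveI := (Rd.exact₁ S hS 0 1 rfl).epi_f (hI.eq_of_tgt _ _)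
      exact epi_comp _ _
    have hnat : (R.rightDerived 0).map S.g ≫ (η _).hom = (η _).hom ≫ R.map S.g :=
      R.rightDerivedZeroIsoSelf.hom.naturality _
    have hd0 : R.map S.g ≫ d = 0 := by
      rw [← cancel_epi (η S.X₂).hom, ← Category.assoc, ← hnat, Category.assoc, Iso.hom_inv_id_assoc, comp_zero]
      exact Rd.comp_δ S hS 0 1 rfl
    have hd : (ShortComplex.mk (R.map S.g) d hd0).Exact := by
      refine (ShortComplex.exact_iff_of_iso ?_).1 (Rd.exact₃ S hS 0 1 rfl)
      exact ShortComplex.isoMk (η _) (η _) (Iso.refl _) hnat.symm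
        ((Category.comp_id _).trans (Iso.hom_inv_id_assoc (η _) _).symm).symm
    have hp : ι ≫ d = 0 := by
      rw [← cancel_epi π, ← Category.assoc, cokernel.π_desc, comp_zero]
      exact hd0
    let φ : ShortComplex.mk (R.map S.g) d hd0 ⟶ ShortComplex.mk ι d hp :=
      { τ₁ := π
        τ₂ := 𝟙 _
        τ₃ := 𝟙 _
        comm₁₂ := by show π ≫ ι = R.map S.g ≫ 𝟙 _; rw [Category.comp_id]; exact cokernel.π_desc _ _ w0
        comm₂₃ := by simp }
    haveI : Epi φ.τ₁ := inferInstanceAs (Epi π)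
    haveI : IsIso φ.τ₂ := inferInstanceAs (IsIso (𝟙 _))
    haveI : Mono φ.τ₃ := inferInstanceAs (Mono (𝟙 _))
    exact ⟨d, hp, { exact := (ShortComplex.exact_iff_of_epi_of_isIso_of_mono φ).1 hd }⟩
  · let Rd := Groth.Agent.RDerLib.derivedLES R
    haveI := (Rd.exact₃ S hS (q + 1) (q + 1 + 1) rfl).mono_g
      ((R.isZero_rightDerived_obj_injective_succ q (injSeq G).X₂).eq_of_src _ _)
    haveI := (Rd.exact₁ S hS (q + 1) (q + 1 + 1) rfl).epi_f
      ((R.isZero_rightDerived_obj_injective_succ (q + 1) (injSeq G).X₂).eq_of_tgt _ _)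
    haveI := isIso_of_mono_of_epi (Rd.δ S hS (q + 1) (q + 1 + 1) rfl)
    exact ⟨asIso (Rd.δ S hS (q + 1) (q + 1 + 1) rfl)⟩

theorem subsingleton_ext_of_iso {P M N : B} (e : M ≅ N) (n : ℕ) (h : Subsingleton (Ext P N n)) :
    Subsingleton (Ext P M n) := by
  refine subsingleton_of_forall_eq 0 fun x => ?_
  have h1 : x = (x.comp (Ext.mk₀ e.hom) (add_zero n)).comp (Ext.mk₀ e.inv) (add_zero n) := by simp
  rw [h1, @Subsingleton.elim _ h (x.comp (Ext.mk₀ e.hom) (add_zero n)) 0, Ext.zero_comp]

variable {P : B} {Q : A} (c : Q ⟶ L.obj P) [IsIso c] [R.PreservesInjectiveObjects]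

/-- the compatibility of `U` with connecting maps through a subobject -/
theorem U_comp_extClass_sub {S : ShortComplex A} (hS : S.ShortExact) {K : B} (π : R.obj S.X₂ ⟶ K)
    (ι : K ⟶ R.obj S.X₃) (w : R.map S.f ≫ π = 0) (hS' : (ShortComplex.mk (R.map S.f) π w).ShortExact)
    (hπι : π ≫ ι = R.map S.g) {k l : ℕ} (h : k + 1 = l) (x : Ext P K k) :
    U adj c S.X₁ l (x.comp hS'.extClass h) =
      (U adj c S.X₃ k (x.comp (Ext.mk₀ ι) (add_zero k))).comp hS.extClass h := by
  let S' : ShortComplex B := ShortComplex.mk (R.map S.f) π w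
  let m : S'.map L ⟶ S :=
    { τ₁ := adj.counit.app _
      τ₂ := adj.counit.app _
      τ₃ := L.map ι ≫ adj.counit.app _
      comm₁₂ := (adj.counit.naturality S.f).symm
      comm₂₃ := by
        show adj.counit.app _ ≫ S.g = L.map π ≫ L.map ι ≫ adj.counit.app _
        rw [← L.map_comp_assoc, hπι]
        exact (adj.counit.naturality S.g).symm }
  have hn := ShortComplex.ShortExact.extClass_naturality (hS'.map_of_exact L) hS m
  rw [U_apply, U_apply, EtMV.T_comp_mk₀, T_comp, Ext.mapExactFunctor_extClass L hS',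
    Ext.comp_assoc (a₂₃ := 1) _ _ _ h (add_zero 1) (by lia)]
  refine (congrArg (fun t => (T L c K k x).comp t h) hn).trans ?_
  rw [← Ext.comp_assoc (a₁₂ := k) _ _ _ (add_zero k) (zero_add 1) (by lia)]
  congr 1
  rw [Ext.comp_assoc_of_second_deg_zero, Ext.mk₀_comp_mk₀]

/-- **surjectivity and injectivity of the edge map in any degree** -/
theorem U_high (k : ℕ) : ∀ G : A,
    ((∀ p q : ℕ, p + q + 1 = k → Subsingleton (Ext P ((R.rightDerived (q + 1)).obj G) p)) →
      Function.Surjective (U adj c G k)) ∧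
    ((∀ p q : ℕ, p + q + 2 = k → Subsingleton (Ext P ((R.rightDerived (q + 1)).obj G) p)) →
      Function.Injective (U adj c G k)) := by
  induction k with
  | zero =>
    intro G
    exact ⟨fun _ => (EtAcycX.U_zero_bijective adj c G).2, fun _ => (EtAcycX.U_zero_bijective adj c G).1⟩
  | succ k ih =>
    intro G
    have hS := injSeq_shortExact G
    obtain ⟨K, π, ι, w, hS', hπι, ⟨p, hp, hT⟩, he⟩ := exists_data adj G
    haveI : Mono ι := hT.mono_f
    refine ⟨fun hG y => ?_, fun hG => ?_⟩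
    · obtain ⟨z, hz⟩ := Ext.covariant_sequence_exact₁ Q hS y (Ext.eq_zero_of_injective _) rfl
      obtain ⟨v, hv⟩ := ((ih (injSeq G).X₃).1 fun a b hab =>
        subsingleton_ext_of_iso (he b).some a (hG a (b + 1) (by omega))) z
      obtain ⟨v', hv'⟩ := Ext.covariant_sequence_exact₂ P hT v (@Subsingleton.elim _ (hG k 0 (by omega)) _ _)
      refine ⟨v'.comp hS'.extClass rfl, (U_comp_extClass_sub adj c hS π ι w hS' hπι rfl v').trans ?_⟩
      rw [hv', hv]
      exact hz
    · refine (injective_iff_map_eq_zero _).2 fun x hx => ?_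
      haveI : Injective (ShortComplex.mk (R.map (injSeq G).f) π w).X₂ :=
        inferInstanceAs (Injective (R.obj (injSeq G).X₂))
      obtain ⟨v, rfl⟩ := Ext.covariant_sequence_exact₁ P hS' x (Ext.eq_zero_of_injective _) rfl
      have hx' : (U adj c (injSeq G).X₃ k (v.comp (Ext.mk₀ ι) (add_zero k))).comp hS.extClass rfl = 0 :=
        (U_comp_extClass_sub adj c hS π ι w hS' hπι rfl v).symm.trans hx
      obtain ⟨z, hz⟩ := Ext.covariant_sequence_exact₃ Q hS _ rfl hx'
      obtain ⟨z', rfl⟩ : ∃ z', U adj c (injSeq G).X₂ k z' = z := by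
        rcases k with _ | k
        · exact (EtAcycX.U_zero_bijective adj c _).2 z
        · exact ⟨0, (map_zero _).trans (Ext.eq_zero_of_injective z).symm⟩
      have h1 : (z'.comp (Ext.mk₀ π) (add_zero k)).comp (Ext.mk₀ ι) (add_zero k) = v.comp (Ext.mk₀ ι) (add_zero k) := by
        refine ((ih (injSeq G).X₃).2 fun a b hab => subsingleton_ext_of_iso (he b).some a (hG a (b + 1) (by omega))) ?_
        rw [← hz, ← U_comp_mk₀, Ext.comp_assoc_of_second_deg_zero, Ext.mk₀_comp_mk₀, hπι]
      have h2 : Function.Injective fun a : Ext P K k => a.comp (Ext.mk₀ ι) (add_zero k) := by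
        intro a b hab
        rw [← sub_eq_zero]
        have h3 : (a - b).comp (Ext.mk₀ ι) (add_zero k) = 0 := by
          rw [sub_eq_add_neg, Ext.add_comp, Ext.neg_comp]
          exact add_neg_eq_zero.2 hab
        rcases k with _ | k
        · obtain ⟨a', ha'⟩ := (Ext.mk₀_bijective _ _).2 (a - b)
          rw [← ha', Ext.mk₀_comp_mk₀, ← Ext.mk₀_zero] at h3
          rw [← ha', zero_of_comp_mono ι ((Ext.mk₀_bijective _ _).1 h3), Ext.mk₀_zero]
        · obtain ⟨t, ht⟩ := Ext.covariant_sequence_exact₁ P hT (a - b) h3 rfl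
          rw [← ht, @Subsingleton.elim _ (hG k 0 (by omega)) t 0, Ext.zero_comp]
      rw [← h2 h1, Ext.comp_assoc (a₂₃ := 1) _ _ _ (add_zero k) (zero_add 1) (by lia)]
      exact (congrArg (fun t => z'.comp t rfl) hS'.comp_extClass).trans (Ext.comp_zero _ _ _ _ _)

end Generic

universe t

attribute [local instance 100000] EtCoh.H._proof_1 Groth.Agent.EtMV.hext
attribute [local instance 200000] Groth.Agent.EtMV.hextAb

variable {X Y : Scheme.{t}} (f : X ⟶ Y) [PreservesFiniteLimits (EtCoh.pull f)]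

/-- **the edge map of the Leray spectral sequence in high degree** -/
theorem HofPush_high (F : EtCoh.Ab X) (k : ℕ) :
    ((∀ p q : ℕ, p + q + 1 = k → Subsingleton (EtCoh.H Y ((EtCoh.Rpush f (q + 1)).obj F) p)) →
      Function.Surjective (EtLim.HofPush f F k)) ∧
    ((∀ p q : ℕ, p + q + 2 = k → Subsingleton (EtCoh.H Y ((EtCoh.Rpush f (q + 1)).obj F) p)) →
      Function.Injective (EtLim.HofPush f F k)) := by
  haveI := EtMV.push_preservesInjective f
  haveI := EtMV.isIso_pc f
  obtain ⟨hs, hi⟩ := U_high (P := EtCoh.const Y ℤ) (EtCoh.pullPushAdj f) (EtMV.pc f) k F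
  refine ⟨fun h => ?_, fun h => ?_⟩
  · exact (funext (EtMV.HofPush_eq f F k) : (⇑(EtLim.HofPush f F k)) = _) ▸
      (((EtMV.toH X F k).surjective.comp (hs fun p q e => h p q e)).comp (EtMV.toH Y _ k).symm.surjective)
  · exact (funext (EtMV.HofPush_eq f F k) : (⇑(EtLim.HofPush f F k)) = _) ▸
      (((EtMV.toH X F k).injective.comp (hi fun p q e => h p q e)).comp (EtMV.toH Y _ k).symm.injective)

/-- **pull-back in high degree from the cohomology of the unit and the higher direct images** -/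
theorem Hpull_high (G : EtCoh.Ab Y) (k : ℕ)
    (hK : Subsingleton (EtCoh.H Y (kernel ((EtCoh.pullPushAdj f).unit.app G)) (k + 1)))
    (hC : Subsingleton (EtCoh.H Y (cokernel ((EtCoh.pullPushAdj f).unit.app G)) k))
    (hR : ∀ p q : ℕ, p + q + 1 = k →
      Subsingleton (EtCoh.H Y ((EtCoh.Rpush f (q + 1)).obj ((EtCoh.pull f).obj G)) p)) :
    Function.Surjective (EtCore.Hpull f G k) ∧
    (Subsingleton (EtCoh.H Y (kernel ((EtCoh.pullPushAdj f).unit.app G)) k) →
      (∀ j, j + 1 = k → Subsingleton (EtCoh.H Y (cokernel ((EtCoh.pullPushAdj f).unit.app G)) j)) →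
      (∀ p q : ℕ, p + q + 2 = k →
        Subsingleton (EtCoh.H Y ((EtCoh.Rpush f (q + 1)).obj ((EtCoh.pull f).obj G)) p)) →
      Function.Injective (EtCore.Hpull f G k)) := by
  let η := (EtCoh.pullPushAdj f).unit.app G
  let S₁ := ShortComplex.mk (kernel.ι η) (Abelian.factorThruImage η) (by
    rw [← cancel_mono (Abelian.image.ι η), Category.assoc, Abelian.image.fac, kernel.condition, zero_comp])
  let S₂ := ShortComplex.mk (Abelian.image.ι η) (cokernel.π η) (kernel.condition _)
  have hS₁ : S₁.ShortExact :=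
    { exact := ShortComplex.exact_of_f_is_kernel _ (KernelFork.IsLimit.ofι' _ _ fun g hg =>
        ⟨kernel.lift η g (by
          have h := congrArg (· ≫ Abelian.image.ι η) hg
          simpa only [S₁, Category.assoc, Abelian.image.fac, zero_comp] using h), kernel.lift_ι _ _ _⟩) }
  have hS₂ : S₂.ShortExact :=
    { exact := ShortComplex.exact_of_f_is_kernel _ (kernelIsKernel _) }
  have e : ⇑(EtCore.Hpull f G k) = ⇑(EtLim.HofPush f ((EtCoh.pull f).obj G) k) ∘
      fun x => Ext.comp x (Ext.mk₀ η) (add_zero k) := funext fun x => by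
    show _ = EtLim.HofPush f ((EtCoh.pull f).obj G) k _
    rw [EtMV.HofPush_eq]
    exact ((EtMV.toH _ _ k).apply_symm_apply _).symm.trans (congrArg _ (EtMV.U_unit f G k x).symm)
  have hη : ∀ x : EtCoh.H Y G k, Ext.comp x (Ext.mk₀ η) (add_zero k) =
      Ext.comp (Ext.comp x (Ext.mk₀ (Abelian.factorThruImage η)) (add_zero k))
        (Ext.mk₀ (Abelian.image.ι η)) (add_zero k) := fun x => by
    rw [Ext.comp_assoc_of_second_deg_zero, Ext.mk₀_comp_mk₀, Abelian.image.fac]
  refine ⟨?_, fun hK' hC' hR' => ?_⟩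
  · rw [e]
    refine ((HofPush_high f _ k).1 hR).comp fun y => ?_
    obtain ⟨z, rfl⟩ := Ext.covariant_sequence_exact₂ (EtCoh.const Y ℤ) hS₂ y (@Subsingleton.elim _ hC _ _)
    obtain ⟨x, rfl⟩ := Ext.covariant_sequence_exact₃ (EtCoh.const Y ℤ) hS₁ z rfl (@Subsingleton.elim _ hK _ _)
    exact ⟨x, hη x⟩
  · rw [e]
    refine ((HofPush_high f _ k).2 hR').comp fun a b hab => ?_
    rw [← sub_eq_zero]
    have h3 : Ext.comp (a - b) (Ext.mk₀ η) (add_zero k) = 0 := by
      rw [sub_eq_add_neg, Ext.add_comp, Ext.neg_comp]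
      exact add_neg_eq_zero.2 hab
    rw [hη] at h3
    have h4 : Ext.comp (a - b) (Ext.mk₀ (Abelian.factorThruImage η)) (add_zero k) = 0 := by
      rcases k with _ | j
      · obtain ⟨t, ht⟩ := (Ext.mk₀_bijective _ _).2 (Ext.comp (a - b) (Ext.mk₀ (Abelian.factorThruImage η)) (add_zero 0))
        rw [← ht, Ext.mk₀_comp_mk₀, ← Ext.mk₀_zero] at h3
        rw [← ht, zero_of_comp_mono (Abelian.image.ι η) ((Ext.mk₀_bijective _ _).1 h3), Ext.mk₀_zero]
      · obtain ⟨t, ht⟩ := Ext.covariant_sequence_exact₁ (EtCoh.const Y ℤ) hS₂ _ h3 rfl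
        rw [← ht, @Subsingleton.elim _ (hC' j rfl) t 0, Ext.zero_comp]
    obtain ⟨t, ht⟩ := Ext.covariant_sequence_exact₂ (EtCoh.const Y ℤ) hS₁ _ h4
    rw [← ht, @Subsingleton.elim _ hK' t 0, Ext.zero_comp]

end Groth.Agent.NearCyc
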