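import Groth.Agent.NearCyc.EdgeHigh
import Mathlib

/-! Bijective edge maps force the global sections of the first non-vanishing higher direct image to vanish. -/

set_option autoImplicit false
set_option backward.isDefEq.respectTransparency false
set_option backward.isDefEq.respectTransparency.types false
set_option linter.unusedSectionVars false
set_option linter.auxLemma false
set_option linter.overlappingInstances false
set_option linter.style.haveILetI false
set_option maxHeartbeats 1000000

universe w w' v v' u u'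

open CategoryTheory CategoryTheory.Limits CategoryTheory.Abelian AlgebraicGeometry Opposite

noncomputable section

namespace Groth.Agent.NearCyc

open EtMV (T U U_comp_mk₀ injSeq injSeq_shortExact)

section Generic

variable {A : Type u} [Category.{v} A] [Abelian A] {B : Type u'} [Category.{v'} B] [Abelian B] [EnoughInjectives A]
  [EnoughInjectives B] {L : B ⥤ A} {R : A ⥤ B} [R.Additive] (adj : L ⊣ R) [HasExt.{w} A] [HasExt.{w'} B]
  [L.Additive] [PreservesFiniteLimits L] [PreservesFiniteColimits L]
  {P : B} {Q : A} (c : Q ⟶ L.obj P) [IsIso c] [R.PreservesInjectiveObjects]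

/-- surjectivity in degree `m + 1` and injectivity in degree `m + 2` of the edge map kill the sections of
`R^(m+1)` when the lower derived functors are invisible -/
theorem subsingleton_hom_rightDerived (m : ℕ) : ∀ G : A,
    (∀ i, i < m → ∀ p, Subsingleton (Ext P ((R.rightDerived (i + 1)).obj G) p)) →
    Function.Surjective (U adj c G (m + 1)) → Function.Injective (U adj c G (m + 2)) →
      Subsingleton (Ext P ((R.rightDerived (m + 1)).obj G) 0) := by
  induction m with
  | zero =>
    intro G _ hs hi
    have hS := injSeq_shortExact G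
    obtain ⟨K, π, ι, w, hS', hπι, ⟨p, hp, hT⟩, -⟩ := exists_data adj G
    haveI : Injective (ShortComplex.mk (R.map (injSeq G).f) π w).X₂ :=
      inferInstanceAs (Injective (R.obj (injSeq G).X₂))
    refine subsingleton_of_forall_eq 0 fun x => ?_
    let z : Ext P K 1 := x.comp hT.extClass (zero_add 1)
    have hzι : z.comp (Ext.mk₀ ι) (add_zero 1) = 0 := by
      rw [Ext.comp_assoc (a₂₃ := 1) _ _ _ (zero_add 1) (add_zero 1) (by lia)]
      exact (congrArg (fun t => Ext.comp x t (zero_add 1)) hT.extClass_comp).trans (Ext.comp_zero _ _ _ _ _)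
    have hz' : z.comp hS'.extClass (rfl : 1 + 1 = 2) = 0 := by
      refine hi ?_
      rw [map_zero]
      exact (U_comp_extClass_sub adj c hS π ι w hS' hπι rfl z).trans (by rw [hzι, map_zero, Ext.zero_comp])
    obtain ⟨z₀, hz₀⟩ := Ext.covariant_sequence_exact₃ P hS' z rfl hz'
    have hz : z = 0 := by rw [← hz₀, Ext.eq_zero_of_injective z₀, Ext.zero_comp]
    obtain ⟨y, hy⟩ := Ext.covariant_sequence_exact₃ P hT x (zero_add 1) hz
    obtain ⟨v₁, hv₁⟩ := hs ((U adj c (injSeq G).X₃ 0 y).comp hS.extClass (zero_add 1))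
    obtain ⟨v, rfl⟩ := Ext.covariant_sequence_exact₁ P hS' v₁ (Ext.eq_zero_of_injective _) (rfl : 0 + 1 = 1)
    have h0 : (U adj c (injSeq G).X₃ 0 (y - v.comp (Ext.mk₀ ι) (add_zero 0))).comp hS.extClass (zero_add 1) = 0 := by
      rw [map_sub, sub_eq_add_neg, Ext.add_comp, Ext.neg_comp, add_neg_eq_zero]
      exact hv₁.symm.trans (U_comp_extClass_sub adj c hS π ι w hS' hπι rfl v)
    obtain ⟨t, ht⟩ := Ext.covariant_sequence_exact₃ Q hS _ (zero_add 1) h0
    obtain ⟨t', rfl⟩ := (EtAcycX.U_zero_bijective adj c _).2 t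
    have h1 : y - v.comp (Ext.mk₀ ι) (add_zero 0) = t'.comp (Ext.mk₀ (R.map (injSeq G).g)) (add_zero 0) := by
      refine (EtAcycX.U_zero_bijective adj c _).1 ?_
      rw [← ht, U_comp_mk₀]
    rw [sub_eq_iff_eq_add] at h1
    subst h1
    rw [← hy]
    show Ext.comp _ (Ext.mk₀ p) (add_zero 0) = 0
    rw [Ext.add_comp, Ext.comp_assoc_of_second_deg_zero, Ext.comp_assoc_of_second_deg_zero, Ext.mk₀_comp_mk₀,
      Ext.mk₀_comp_mk₀, hp, ← hπι, Category.assoc, hp, comp_zero, Ext.mk₀_zero, Ext.comp_zero, Ext.mk₀_zero,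
      Ext.comp_zero, add_zero]
  | succ m ih =>
    intro G hG hs hi
    have hS := injSeq_shortExact G
    obtain ⟨K, π, ι, w, hS', hπι, ⟨p, hp, hT⟩, he⟩ := exists_data adj G
    haveI : Injective (ShortComplex.mk (R.map (injSeq G).f) π w).X₂ :=
      inferInstanceAs (Injective (R.obj (injSeq G).X₂))
    refine subsingleton_ext_of_iso (P := P) (he m).some.symm 0 (ih (injSeq G).X₃ (fun i hi' k =>
      subsingleton_ext_of_iso (he i).some k (hG (i + 1) (by omega) k)) (fun y => ?_) ?_)
    · obtain ⟨v, hv⟩ := hs (y.comp hS.extClass rfl)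
      obtain ⟨v', rfl⟩ := Ext.covariant_sequence_exact₁ P hS' v (Ext.eq_zero_of_injective _) rfl
      refine ⟨v'.comp (Ext.mk₀ ι) (add_zero _), ?_⟩
      rw [← sub_eq_zero]
      obtain ⟨t, ht⟩ := Ext.covariant_sequence_exact₃ Q hS
        (U adj c (injSeq G).X₃ (m + 1) (v'.comp (Ext.mk₀ ι) (add_zero _)) - y) (rfl : m + 1 + 1 = m + 1 + 1) (by
          rw [sub_eq_add_neg, Ext.add_comp, Ext.neg_comp, add_neg_eq_zero]
          exact (U_comp_extClass_sub adj c hS π ι w hS' hπι rfl v').symm.trans hv)
      rw [← ht, Ext.eq_zero_of_injective t, Ext.zero_comp]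
    · refine (injective_iff_map_eq_zero _).2 fun a ha => ?_
      obtain ⟨v, rfl⟩ := Ext.covariant_sequence_exact₂ P hT a
        (@Subsingleton.elim _ (hG 0 (by omega) (m + 2)) _ _)
      have h2 : v.comp hS'.extClass (rfl : m + 2 + 1 = m + 3) = 0 := by
        refine hi ?_
        rw [map_zero]
        exact (U_comp_extClass_sub adj c hS π ι w hS' hπι rfl v).trans (by
          rw [show U adj c (injSeq G).X₃ (m + 2) (v.comp (Ext.mk₀ ι) (add_zero _)) = 0 from ha, Ext.zero_comp])
      obtain ⟨t, ht⟩ := Ext.covariant_sequence_exact₃ P hS' v rfl h2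
      rw [← ht, Ext.eq_zero_of_injective t, Ext.zero_comp, Ext.zero_comp]

end Generic

universe t

attribute [local instance 100000] EtCoh.H._proof_1 Groth.Agent.EtMV.hext
attribute [local instance 200000] Groth.Agent.EtMV.hextAb

/-- **bijective edge maps kill global sections of higher direct images** -/
theorem subsingleton_H0_Rpush {X Y : Scheme.{t}} (f : X ⟶ Y) [PreservesFiniteLimits (EtCoh.pull f)] (F : EtCoh.Ab X)
    (m : ℕ) (hlow : ∀ i, i < m → ∀ p, Subsingleton (EtCoh.H Y ((EtCoh.Rpush f (i + 1)).obj F) p))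
    (hb : ∀ k, Function.Bijective (EtLim.HofPush f F k)) :
    Subsingleton (EtCoh.H Y ((EtCoh.Rpush f (m + 1)).obj F) 0) := by
  haveI := EtMV.push_preservesInjective f
  haveI := EtMV.isIso_pc f
  have hU : ∀ k, Function.Bijective (U (EtCoh.pullPushAdj f) (EtMV.pc f) F k) := fun k => by
    have h := ((EtMV.toH X F k).symm.bijective.comp (hb k)).comp (EtMV.toH Y ((EtCoh.push f).obj F) k).bijective
    convert h using 1
    funext x
    simp only [Function.comp_apply, EtMV.HofPush_eq, AddEquiv.symm_apply_apply]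
  exact subsingleton_hom_rightDerived (P := EtCoh.const Y ℤ) (EtCoh.pullPushAdj f) (EtMV.pc f) m F
    (fun i hi p => hlow i hi p) (hU _).2 (hU _).1

end Groth.Agent.NearCyc
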