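import Groth.Agent.EtBCQ.StalkNat
import Groth.Agent.EtBCQ.Vcomp
import Groth.Agent.EtAcycX.ConstHens
import Groth.Agent.EtAcycX.Descend
import Groth.Agent.EtAcycX.Restrict
import Groth.Agent.EtAcycX.LCVan
import Groth.Agent.EtPBC.AllBC
import Groth.Agent.EtOpenBC.LocalAlg
import Groth.Agent.LAcyc.ConstRpush
import Mathlib

/-! Restriction to a geometric fibre of a proper morphism whose higher direct images are finite constant. -/

set_option autoImplicit false
set_option backward.isDefEq.respectTransparency false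
set_option backward.isDefEq.respectTransparency.types false
set_option linter.style.haveILetI false
set_option linter.overlappingInstances false
set_option linter.unusedSectionVars false
set_option linter.auxLemma false
set_option maxHeartbeats 1000000

universe u

open CategoryTheory CategoryTheory.Limits CategoryTheory.Abelian AlgebraicGeometry IsLocalRing Opposite

noncomputable section

namespace Groth.Agent.NearCyc

attribute [local instance 100000] EtCoh.H._proof_1 Groth.Agent.EtMV.hext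
attribute [local instance 200000] Groth.Agent.EtMV.hextAb

open EtAcycX (constB)

theorem mono_stalk_congr {S : Scheme.{u}} {Ω : Type u} [Field Ω] [IsSepClosed Ω] {ξ ξ' : Spec (CommRingCat.of Ω) ⟶ S}
    (e : ξ = ξ') {A B : EtCoh.Ab S} (φ : A ⟶ B) (h : Function.Injective ((EtCoh.stalk ξ).map φ)) :
    Function.Injective ((EtCoh.stalk ξ').map φ) := by
  subst e; exact h

theorem stalk_equiv_congr {S : Scheme.{u}} {Ω : Type u} [Field Ω] [IsSepClosed Ω] {ξ ξ' : Spec (CommRingCat.of Ω) ⟶ S}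
    (e : ξ = ξ') (A : EtCoh.Ab S) : Nonempty ((EtCoh.stalk ξ).obj A ≅ (EtCoh.stalk ξ').obj A) := by
  subst e; exact ⟨Iso.refl _⟩

theorem bijective_Hpull_congr {A B : Scheme.{u}} {m m' : A ⟶ B} (e : m = m') [PreservesFiniteLimits (EtCoh.pull m)]
    [PreservesFiniteLimits (EtCoh.pull m')] {F : EtCoh.Ab B} {q : ℕ} (h : Function.Bijective (EtCore.Hpull m F q)) :
    Function.Bijective (EtCore.Hpull m' F q) := by
  subst e; exact h

/-- the stalk of a constant sheaf at the closed point of a strictly henselian spectrum -/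
theorem exists_stalk_constB_equiv (R : Type u) [CommRing R] [HenselianLocalRing R] [IsSepClosed (ResidueField R)]
    (M : AddCommGrpCat.{u + 1}) :
    Nonempty (M ≃ (EtCoh.stalk (EtHens.pt R)).obj (constB (Spec (CommRingCat.of R)) M)) :=
  ⟨(Equiv.ofBijective _ (EtAcycX.constTop_henselian R M)).trans
    (Equiv.ofBijective _ (EtHens.bijective_germ R (constB (Spec (CommRingCat.of R)) M)))⟩

variable {V : Type u} [CommRing V] [HenselianLocalRing V] [IsSepClosed (ResidueField V)]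

/-- maps from the constant sheaf into a constant sheaf are detected at any geometric point -/
theorem eq_zero_of_pull {A : EtCoh.Ab (Spec (CommRingCat.of V))} {M : AddCommGrpCat.{u + 1}}
    (a : A ≅ constB (Spec (CommRingCat.of V)) M) {Ω : Type u} [Field Ω] [IsSepClosed Ω]
    (τ : Spec (CommRingCat.of Ω) ⟶ Spec (CommRingCat.of V)) (z : EtCoh.const (Spec (CommRingCat.of V)) ℤ ⟶ A)
    (hz : (EtCoh.pull τ).map z = 0) : z = 0 := by
  haveI := EtCohDesc.pull_preservesFiniteLimits τ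
  haveI : IsSepClosed (ResidueField Ω) := Hensel.isSepClosed_of_ringEquiv (RingEquiv.ofBijective (residue Ω)
    ⟨(residue Ω).injective, residue_surjective⟩)
  have hb := EtAcycX.bijective_Hpull_of_iso τ a
    (EtAcycX.bijective_Hpull_constB (f := τ) (EtAcycX.constTop_henselian Ω) (EtAcycX.constTop_henselian V) M)
  have h : EtCore.Hpull τ A 0 (Ext.mk₀ z) = 0 := by
    show (Ext.mk₀ (EtCore.pullConst τ ℤ).inv).comp ((Ext.mk₀ z).mapExactFunctor (EtCoh.pull τ)) (zero_add 0) = _
    rw [Ext.mapExactFunctor_mk₀, hz, Ext.mk₀_comp_mk₀, comp_zero, Ext.mk₀_zero]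
  have h' : (Ext.mk₀ z : EtCoh.H _ A 0) = 0 := hb.1 (h.trans (map_zero _).symm)
  rw [← Ext.mk₀_zero] at h'
  exact (Ext.mk₀_bijective _ _).1 h'

/-- injectivity on sections gives injectivity on the closed stalk -/
theorem injective_stalk_pt {A B : EtCoh.Ab (Spec (CommRingCat.of V))} (φ : A ⟶ B)
    (h : ∀ z : EtCoh.const (Spec (CommRingCat.of V)) ℤ ⟶ A, z ≫ φ = 0 → z = 0) :
    Function.Injective ((EtCoh.stalk (EtHens.pt V)).map φ) := by
  let S := Spec (CommRingCat.of V)
  refine (injective_iff_map_eq_zero ((EtCoh.stalk (EtHens.pt V)).map φ).hom).2 fun a ha => ?_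
  obtain ⟨t, rfl⟩ := (EtHens.bijective_germ V A).2 a
  obtain ⟨z, rfl⟩ := ((EtStrictLoc.secIso S).app A).addCommGroupIsoToAddEquiv.surjective t
  have h1 : φ.hom.app (op (EtCoh.top S)) ((EtStrictLoc.secIso S).hom.app A z) = 0 := by
    refine (EtHens.bijective_germ V B).1 ?_
    refine Eq.trans ?_ (ha.trans (map_zero _).symm)
    exact (GrothendieckTopology.Point.toPresheafFiber_naturality_apply
      (Scheme.pointSmallEtale (EtHens.pt V)) φ.hom (EtCoh.top S) (EtHens.pt₀ V) _).symm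
  have h2 : (EtStrictLoc.secIso S).hom.app B (z ≫ φ) = 0 :=
    (ConcreteCategory.congr_hom ((EtStrictLoc.secIso S).hom.naturality φ) z).trans h1
  have h3 : z ≫ φ = 0 :=
    ((EtStrictLoc.secIso S).app B).addCommGroupIsoToAddEquiv.injective (h2.trans (map_zero _).symm)
  rw [h z h3]
  show (Scheme.pointSmallEtale (EtHens.pt V)).toPresheafFiber (EtCoh.top S) (EtHens.pt₀ V) A.obj
    (((EtStrictLoc.secIso S).app A).addCommGroupIsoToAddEquiv 0) = 0
  rw [map_zero, map_zero]

variable {X : Scheme.{u}} (f : X ⟶ Spec (CommRingCat.of V)) [IsProper f]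

/-- **restriction to a geometric fibre when the higher direct image is finite constant** -/
theorem bijective_Hpull_of_const {Ω : Type u} [Field Ω] [IsSepClosed Ω]
    (τ : Spec (CommRingCat.of Ω) ⟶ Spec (CommRingCat.of V)) {Xt : Scheme.{u}} (h : Xt ⟶ X)
    (ft : Xt ⟶ Spec (CommRingCat.of Ω)) (ct : IsPullback h ft f τ) [PreservesFiniteLimits (EtCoh.pull h)]
    (G : EtCoh.Ab X) (hG : EtAcyc.IsLTorsion Set.univ G) (k : ℕ) (M : AddCommGrpCat.{u + 1}) [Finite M]
    (a : (EtCoh.Rpush f k).obj G ≅ constB (Spec (CommRingCat.of V)) M) :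
    Function.Bijective (EtCore.Hpull h G k) := by
  let S := Spec (CommRingCat.of V)
  let W := Spec (CommRingCat.of Ω)
  let r := ft ≫ τ
  haveI : IsAffineHom τ := isAffineHom_of_isAffine τ
  haveI : IsAffineHom h := MorphismProperty.of_isPullback (P := @IsAffineHom) ct.flip inferInstance
  haveI : IsProper ft := MorphismProperty.of_isPullback (P := @IsProper) ct inferInstance
  haveI := EtCohDesc.pull_preservesFiniteLimits (𝟙 Xt ≫ h)
  haveI := EtCohDesc.pull_preservesFiniteLimits (𝟙 Xt)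
  haveI := EtCohDesc.pull_preservesFiniteLimits (𝟙 X)
  haveI : QuasiCompact r := inferInstance
  haveI : QuasiSeparated r := inferInstance
  have w₁ : h ≫ f = r ≫ 𝟙 S := by rw [Category.comp_id, ct.w]
  have w₂ : 𝟙 Xt ≫ r = ft ≫ τ := Category.id_comp _
  have wo : (𝟙 Xt ≫ h) ≫ f = ft ≫ τ ≫ 𝟙 S := by rw [Category.id_comp, Category.comp_id, ct.w]
  let φ := EtBC.bcQ f (𝟙 S) r h w₁ k G
  let e₀ : (EtCoh.pull (𝟙 S)).obj ((EtCoh.Rpush f k).obj G) ≅ constB S M :=
    (EtCoh.pull (𝟙 S)).mapIso a ≪≫ (EtCore.pullConstIso (𝟙 S)).app M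
  have hmono : Mono ((EtCoh.pull τ).map φ) := by
    obtain ⟨R, b, -, hab⟩ := EtBCQ.exists_vcomp (𝟙 S) f r h w₁ τ ft (𝟙 Xt) w₂ wo G k
    have sq : IsPullback (𝟙 Xt ≫ h) ft f (τ ≫ 𝟙 S) := by rw [Category.id_comp, Category.comp_id]; exact ct
    haveI := hab.1 (EtPBC.isIso_bcQ_proper f (τ ≫ 𝟙 S) ft (𝟙 Xt ≫ h) sq G hG k)
    exact mono_of_mono ((EtCoh.pull τ).map φ) b
  have hinj : ∀ z : EtCoh.const S ℤ ⟶ (EtCoh.pull (𝟙 S)).obj ((EtCoh.Rpush f k).obj G), z ≫ φ = 0 → z = 0 := fun z hz => by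
    refine eq_zero_of_pull e₀ τ z ?_
    rw [← cancel_mono ((EtCoh.pull τ).map φ), zero_comp, ← Functor.map_comp, hz]
    haveI : (EtCoh.pull τ).Additive := (EtCoh.pullPushAdj τ).left_adjoint_additive
    exact Functor.map_zero _ _ _
  let QV : EtBCQ.SH S (closedPoint V) := EtOpenBC.selfSH V (closedPoint V) rfl
  letI : Algebra (S.presheaf.stalk (closedPoint V)) V := QV.alg
  haveI : IsLocalHom (algebraMap (S.presheaf.stalk (closedPoint V)) V) := QV.lh
  haveI : _root_.Hensel.IsStrictHenselization (S.presheaf.stalk (closedPoint V)) V := QV.sh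
  have hsV : Hens2.specOf S (closedPoint V) V = 𝟙 S := EtOpenBC.selfSH_spec V _ rfl
  have hgV : EtHens.pt V = Hens2.geomPt S (closedPoint V) V :=
    ((congrArg (fun t => EtHens.pt V ≫ t) hsV).trans (Category.comp_id _)).symm
  have hst : Function.Injective ((EtCoh.stalk (Hens2.geomPt S (closedPoint V) V)).map φ) :=
    mono_stalk_congr hgV φ (injective_stalk_pt φ hinj)
  haveI : IsLocalHom (RingHom.id V) := ⟨fun _ ha => ha⟩
  have hρ : Hens2.specOf S (closedPoint V) V ≫ 𝟙 S = Spec.map (CommRingCat.ofHom (RingHom.id V)) ≫ Hens2.specOf S (closedPoint V) V := by simp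
  have HS : IsPullback (𝟙 X) f f (Hens2.specOf S (closedPoint V) V) := by rw [hsV]; exact IsPullback.id_horiz f
  have HX : IsPullback (𝟙 Xt) r r (Hens2.specOf S (closedPoint V) V) := by rw [hsV]; exact IsPullback.id_horiz r
  have wm : h ≫ 𝟙 X = 𝟙 Xt ≫ h := by simp
  have wb : h ≫ f = r ≫ Spec.map (CommRingCat.ofHom (RingHom.id V)) := by
    rw [CommRingCat.ofHom_id, Spec.map_id]; exact w₁
  have hnat := EtBCQ.stalk_bcQ_res (𝟙 S) f r h w₁ k (closedPoint V) V (closedPoint V) V (RingHom.id V) hρ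
    (𝟙 X) f HS (𝟙 Xt) r HX h wm wb G
  let eS := EtBCQ.srcIso (𝟙 S) f k (closedPoint V) V (closedPoint V) V (RingHom.id V) hρ (𝟙 X) f HS G
  let eT := EtBCQ.tgtIso r k (closedPoint V) V (𝟙 Xt) r HX ((EtCoh.pull h).obj G)
  let res := EtBCQ.resVia h k (𝟙 X) (𝟙 Xt) h wm G
  have hres : Function.Injective res := by
    intro y y' hy
    obtain ⟨t, rfl⟩ := eS.addCommGroupIsoToAddEquiv.surjective y
    obtain ⟨t', rfl⟩ := eS.addCommGroupIsoToAddEquiv.surjective y'
    refine congrArg _ (hst (eT.addCommGroupIsoToAddEquiv.injective ?_))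
    exact ((ConcreteCategory.congr_hom hnat t).trans hy).trans (ConcreteCategory.congr_hom hnat t').symm
  obtain ⟨mV⟩ := exists_stalk_constB_equiv V M
  obtain ⟨cV⟩ := stalk_equiv_congr hgV (constB S M)
  let αS := (mV.trans cV.addCommGroupIsoToAddEquiv.toEquiv).trans
    (((EtCoh.stalk (Hens2.geomPt S (closedPoint V) V)).mapIso e₀.symm ≪≫ eS).addCommGroupIsoToAddEquiv.toEquiv)
  haveI : IsSepClosed (ResidueField Ω) := Hensel.isSepClosed_of_ringEquiv (RingEquiv.ofBijective (residue Ω)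
    ⟨(residue Ω).injective, residue_surjective⟩)
  let QW : EtBCQ.SH W (closedPoint Ω) := EtOpenBC.selfSH Ω (closedPoint Ω) rfl
  letI : Algebra (W.presheaf.stalk (closedPoint Ω)) Ω := QW.alg
  haveI : IsLocalHom (algebraMap (W.presheaf.stalk (closedPoint Ω)) Ω) := QW.lh
  haveI : _root_.Hensel.IsStrictHenselization (W.presheaf.stalk (closedPoint Ω)) Ω := QW.sh
  have hsW : Hens2.specOf W (closedPoint Ω) Ω = 𝟙 W := EtOpenBC.selfSH_spec Ω _ rfl
  have hgW : EtHens.pt Ω = Hens2.geomPt W (closedPoint Ω) Ω :=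
    ((congrArg (fun t => EtHens.pt Ω ≫ t) hsW).trans (Category.comp_id _)).symm
  have HW : IsPullback (𝟙 Xt) ft ft (Hens2.specOf W (closedPoint Ω) Ω) := by rw [hsW]; exact IsPullback.id_horiz ft
  haveI := EtPBC.isIso_bcQ_proper f τ ft h ct G hG k
  let eW : (EtCoh.Rpush ft k).obj ((EtCoh.pull h).obj G) ≅ constB W M :=
    (asIso (EtBC.bcQ f τ ft h ct.w k G)).symm ≪≫ (EtCoh.pull τ).mapIso a ≪≫ (EtCore.pullConstIso τ).app M
  obtain ⟨mW⟩ := exists_stalk_constB_equiv Ω M
  obtain ⟨cW⟩ := stalk_equiv_congr hgW (constB W M)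
  let αT := (mW.trans cW.addCommGroupIsoToAddEquiv.toEquiv).trans
    (((EtCoh.stalk (Hens2.geomPt W (closedPoint Ω) Ω)).mapIso eW.symm ≪≫
      EtBCQ.tgtIso ft k (closedPoint Ω) Ω (𝟙 Xt) ft HW ((EtCoh.pull h).obj G)).addCommGroupIsoToAddEquiv.toEquiv)
  have hbij : Function.Bijective res := by
    refine ⟨hres, fun y => ?_⟩
    obtain ⟨m, hm⟩ := (Finite.injective_iff_surjective (f := fun m : M => αT.symm (res (αS m)))).1
      ((αT.symm.injective.comp hres).comp αS.injective) (αT.symm y)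
    exact ⟨αS m, αT.symm.injective hm⟩
  have hfun : ⇑res = (fun y => Ext.comp y (Ext.mk₀ ((EtMV.ψ (𝟙 Xt) h (𝟙 Xt ≫ h) rfl).inv.app G)) (add_zero k)) ∘
      ⇑(EtCore.HpullVia h (𝟙 X) (𝟙 Xt ≫ h) wm G k) := funext fun y => EtBCQ.resVia_apply h k (𝟙 X) (𝟙 Xt) h wm G y
  have hVia : Function.Bijective (EtCore.HpullVia h (𝟙 X) (𝟙 Xt ≫ h) wm G k) :=
    (Function.Bijective.of_comp_iff' (EtAcycX.bijective_comp_iso
      ((EtMV.ψ (𝟙 Xt) h (𝟙 Xt ≫ h) rfl).inv.app G) k) _).1 (hfun ▸ hbij)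
  refine bijective_Hpull_congr (Category.id_comp h) ?_
  convert hVia.comp (EtAcycX.Hpull_bijective_of_isIso (𝟙 X) G k) using 1
  funext x
  exact (EtAcycX.Hpull_HpullVia h (𝟙 X) (𝟙 Xt ≫ h) wm G k x).symm

end Groth.Agent.NearCyc
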