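import Groth.Agent.Unibranch.ValuationBase
import Groth.Agent.EtPBC.CdSupport
import Groth.Agent.EtPBC.CdProper
import Groth.Agent.EtPBC.ProperAll
import Mathlib

/-! Dimension of the special fibre and cohomology of sheaves with small support on it. -/

set_option autoImplicit false
set_option backward.isDefEq.respectTransparency false
set_option backward.isDefEq.respectTransparency.types false
set_option linter.style.haveILetI false
set_option linter.overlappingInstances false
set_option linter.auxLemma false
set_option maxHeartbeats 1000000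

universe u

open CategoryTheory CategoryTheory.Limits AlgebraicGeometry IsLocalRing TopologicalSpace

noncomputable section

namespace Groth.Agent.NearCyc

/-- points of the special fibre of a flat family have closures of dimension at most that of the generic fibre -/
theorem dim_closure_le_generic {V K : Type u} [CommRing V] [IsDomain V] [IsDiscreteValuationRing V] [Field K]
    [Algebra V K] [IsFractionRing V K] {X : Scheme.{u}} (f : X ⟶ Spec (CommRingCat.of V)) [Flat f]
    [LocallyOfFiniteType f] {n : ℕ}
    (hn : topologicalKrullDim ↥(pullback f (Spec.map (CommRingCat.ofHom (algebraMap V K)))) ≤ n)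
    (x : X) (hx : f x = closedPoint V) : topologicalKrullDim ↥(closure ({x} : Set X)) ≤ n := by
  haveI : IsDomain ↑(CommRingCat.of V) := ‹IsDomain V›
  let η := genericPoint ↥(Spec (CommRingCat.of V))
  obtain ⟨ζ, hζ, hηζ⟩ := Flat.generalizingMap f (genericPoint_specializes (f x) : η ⤳ f x)
  let gK := Spec.map (CommRingCat.ofHom (algebraMap V K))
  haveI : IsPreimmersion gK := IsPreimmersion.of_isLocalization (nonZeroDivisors V)
  have hr : Set.range gK = {η} := by
    haveI : Unique (PrimeSpectrum K) := inferInstance
    ext y
    simp only [Set.mem_range, Set.mem_singleton_iff]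
    have h1 : ∀ z, gK z = η := fun z => by
      rw [show η = (⟨⊥, Ideal.isPrime_bot⟩ : PrimeSpectrum V) from AlgebraicGeometry.genericPoint_eq_bot_of_affine (CommRingCat.of V)]
      refine PrimeSpectrum.ext ?_
      show (PrimeSpectrum.asIdeal (z : PrimeSpectrum K)).comap (algebraMap V K) = ⊥
      rw [(Ideal.eq_bot_or_top (PrimeSpectrum.asIdeal (z : PrimeSpectrum K))).resolve_right
        (PrimeSpectrum.isPrime (z : PrimeSpectrum K)).ne_top]
      exact Ideal.comap_bot_of_injective _ (IsFractionRing.injective V K)
    exact ⟨fun ⟨z, hz⟩ => hz ▸ h1 z, fun h => ⟨(⟨⊥, Ideal.isPrime_bot⟩ : PrimeSpectrum K), (h1 _).trans h.symm⟩⟩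
  have hrange : Set.range (pullback.fst f gK) = Set.univ ∩ f ⁻¹' {η} := by
    rw [Set.univ_inter, Scheme.Pullback.range_fst, hr]
  haveI : IsPreimmersion (pullback.fst f gK) := MorphismProperty.pullback_fst _ _ ‹_›
  have hc : closure ({x} : Set X) ∩ f ⁻¹' {f x} = closure {x} := by
    refine Set.inter_eq_left.2 (closure_minimal (Set.singleton_subset_iff.2 rfl) ?_)
    rw [hx]
    exact (IsLocalRing.isClosed_singleton_closedPoint V).preimage f.continuous
  refine Unibranch.natCast_le_iff_of_le_iff.2 fun k hk => ?_
  rw [← hc, Unibranch.natCast_le_topologicalKrullDim_inter_iff f isClosed_closure.isLocallyClosed] at hk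
  exact Unibranch.natCast_le_iff_of_le_iff.1 hn k
    ((Unibranch.natCast_le_topologicalKrullDim_iff f (pullback.fst f gK).isEmbedding hrange).2
      (Unibranch.hasChain_of_specializes_generic f hζ hηζ hk))

attribute [local instance 100000] EtCoh.H._proof_1 Groth.Agent.EtMV.hext
attribute [local instance 200000] Groth.Agent.EtMV.hextAb

/-- the cohomological dimension of sheaves supported on points with small closures -/
theorem subsingleton_H_proper_supp {k : Type u} [Field k] [IsSepClosed k] {Z : Scheme.{u}}
    (c : Z ⟶ Spec (CommRingCat.of k)) [IsProper c] (S : EtCoh.Ab Z) {m : ℕ} (hm : 0 < m) (hS : EtPBC.Killed m S)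
    (e : ℕ) (h : ∀ z : Z, ¬ topologicalKrullDim ↥(closure ({z} : Set Z)) ≤ e → EtPBC.ZeroAt S z) (q : ℕ)
    (hq : 2 * e < q) : Subsingleton (EtCoh.H Z S q) := by
  haveI := EtPBC.isNoetherian_of_field c
  refine EtPBC.subsingleton_H_of_suppPred (P := fun z => topologicalKrullDim ↥(closure ({z} : Set Z)) ≤ e) S
    (fun a b hab ha => le_trans ?_ ha) h q fun C hC K i hi hK => ?_
  · exact (Topology.IsEmbedding.inclusion (closure_minimal (Set.singleton_subset_iff.2
      (specializes_iff_mem_closure.1 hab)) isClosed_closure)).isInducing.topologicalKrullDim_le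
  let I := Scheme.IdealSheafData.vanishingIdeal C
  have hr : Set.range I.subschemeι = C := by
    rw [Scheme.IdealSheafData.range_subschemeι]
    exact Scheme.IdealSheafData.coe_support_vanishingIdeal C
  refine EtPBC.subsingleton_H_of_closedImmersion I.subschemeι K hm (EtPBC.killed_of_mono i hS)
    (fun z hz => hK z fun hz' => hz (hr.ge hz')) q ?_
  refine EtPBC.subsingleton_H_proper (I.subschemeι ≫ c) e ?_ _
    (EtPBC.isLTorsion_univ_of_killed hm (EtPBC.killed_pull _ (EtPBC.killed_of_mono i hS))) q hq
  refine Unibranch.topologicalKrullDim_le_natCast fun j s hs => ?_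
  have h0 : topologicalKrullDim ↥(closure ({I.subschemeι (s 0)} : Set Z)) ≤ e := hC _ (hr.le ⟨s 0, rfl⟩)
  refine ENat.natCast_le_natCast.1 (WithBot.coe_le_coe.1 (le_trans ?_ h0))
  have hmem : ∀ i : Fin (j + 1), I.subschemeι (s i) ∈ closure ({I.subschemeι (s 0)} : Set Z) := fun i => by
    refine specializes_iff_mem_closure.1 ?_
    induction i using Fin.induction with
    | zero => exact specializes_rfl
    | succ i ih => exact ih.trans ((hs i).1.map I.subschemeι.continuous)
  haveI : QuasiSober ↥(closure ({I.subschemeι (s 0)} : Set Z)) :=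
    (Topology.IsClosedEmbedding.subtypeVal isClosed_closure).quasiSober
  exact Unibranch.natCast_le_topologicalKrullDim (fun i => (⟨_, hmem i⟩ : ↥(closure ({I.subschemeι (s 0)} : Set Z))))
    fun i => ⟨(subtype_specializes_iff _ _).2 ((hs i).1.map I.subschemeι.continuous), fun h => by
      have h' : I.subschemeι (s i.castSucc) = I.subschemeι (s i.succ) := congrArg (fun y => y.1) h
      exact (hs i).2 (I.subschemeι.isClosedEmbedding.injective h')⟩

/-- **cohomology of sheaves with small support on the special fibre of a proper scheme** -/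
theorem subsingleton_H_of_special_supp {V : Type u} [CommRing V] [HenselianLocalRing V]
    [IsSepClosed (ResidueField V)] {X : Scheme.{u}} (f : X ⟶ Spec (CommRingCat.of V)) [IsProper f]
    (S : EtCoh.Ab X) {m : ℕ} (hm : 0 < m) (hS : EtPBC.Killed m S) (e : ℕ)
    (h : ∀ x : X, f x = closedPoint V → ¬ topologicalKrullDim ↥(closure ({x} : Set X)) ≤ e → EtPBC.ZeroAt S x)
    (q : ℕ) (hq : 2 * e < q) : Subsingleton (EtCoh.H X S q) := by
  let g := Spec.map (CommRingCat.ofHom (residue V))
  let i := pullback.fst f g
  let c := pullback.snd f g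
  haveI := EtPullExact.pull_preservesFiniteLimits i
  have hc : EtAcyc.CompN i Set.univ q :=
    EtPBC.pb_proper f V (𝟙 _) (𝟙 X) f IsPullback.of_id_fst i c (IsPullback.of_hasPullback f g) q
  have hb := (hc S (EtPBC.isLTorsion_univ_of_killed hm hS)).1 q le_rfl
  haveI : IsClosedImmersion g := IsClosedImmersion.spec_of_surjective _ residue_surjective
  haveI : IsClosedImmersion i := MorphismProperty.pullback_fst _ _ ‹_›
  haveI : IsProper c := MorphismProperty.pullback_snd _ _ ‹_›
  haveI := subsingleton_H_proper_supp c ((EtCoh.pull i).obj S) hm (EtPBC.killed_pull i hS) e (fun z hz => by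
    refine EtPBC.zeroAt_pull i S z (h _ ?_ fun hle => hz (le_trans ?_ hle))
    · show (i ≫ f) z = _
      rw [show i ≫ f = c ≫ g from pullback.condition, Scheme.Hom.comp_apply,
        Subsingleton.elim (c z) (closedPoint (ResidueField V))]
      exact EtBCQ.Spec_closedPoint' (residue V)
    · let φ : ↥(closure ({z} : Set _)) → ↥(closure ({i z} : Set X)) := fun y => ⟨i y.1,
        specializes_iff_mem_closure.1 ((specializes_iff_mem_closure.2 y.2).map i.continuous)⟩
      refine Topology.IsInducing.topologicalKrullDim_le (f := φ) ?_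
      exact Topology.IsInducing.of_comp (by fun_prop) continuous_subtype_val
        (i.isClosedEmbedding.isInducing.comp Topology.IsInducing.subtypeVal)) q hq
  exact hb.1.subsingleton

end Groth.Agent.NearCyc
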