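import Groth.Agent.NearCyc.EdgeVanish
import Groth.Agent.NearCyc.SpecDim
import Groth.Agent.EtPBC.Skyscraper
import Groth.Agent.EtPBC.CdLeray
import Groth.Agent.EtPBC.CdFibre
import Mathlib

/-! Vanishing on the special fibre from bijective restriction maps, when the support is finite. -/

set_option autoImplicit false
set_option backward.isDefEq.respectTransparency false
set_option backward.isDefEq.respectTransparency.types false
set_option linter.style.haveILetI false
set_option linter.overlappingInstances false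
set_option linter.unusedSectionVars false
set_option linter.auxLemma false
set_option maxHeartbeats 1000000

universe u

open CategoryTheory CategoryTheory.Limits CategoryTheory.Abelian AlgebraicGeometry IsLocalRing TopologicalSpace Opposite

noncomputable section

namespace Groth.Agent.NearCyc

attribute [local instance 100000] EtCoh.H._proof_1 Groth.Agent.EtMV.hext
attribute [local instance 200000] Groth.Agent.EtMV.hextAb

variable {V : Type u} [CommRing V] [HenselianLocalRing V] [IsSepClosed (ResidueField V)] {X : Scheme.{u}}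
  (f : X ⟶ Spec (CommRingCat.of V)) [IsProper f]

include f in
/-- closed points of the special fibre have separably closed residue fields -/
theorem isSepClosed_residueField_special (x : X) (hx : IsClosed ({x} : Set X)) (hfx : f x = closedPoint V) :
    IsSepClosed (X.residueField x) := by
  let g := Spec.map (CommRingCat.ofHom (residue V))
  let i := pullback.fst f g
  let c := pullback.snd f g
  haveI : IsClosedImmersion g := IsClosedImmersion.spec_of_surjective _ residue_surjective
  haveI : IsClosedImmersion i := MorphismProperty.pullback_fst _ _ ‹_›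
  haveI : IsProper c := MorphismProperty.pullback_snd _ _ ‹_›
  obtain ⟨z, rfl⟩ : x ∈ Set.range i := by
    rw [Scheme.Pullback.range_fst]
    exact ⟨closedPoint (ResidueField V), (EtBCQ.Spec_closedPoint' (residue V)).trans hfx.symm⟩
  have hz : IsClosed ({z} : Set _) := by
    have := hx.preimage i.continuous
    rwa [← Set.image_singleton, Set.preimage_image_eq _ i.isClosedEmbedding.injective] at this
  haveI := EtPBC.isSepClosed_of_isClosed c z hz
  refine Hensel.isSepClosed_of_ringEquiv (RingEquiv.ofBijective (i.residueFieldMap z).hom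
    ⟨RingHom.injective _, ?_⟩).symm
  intro a
  obtain ⟨b, rfl⟩ := residue_surjective a
  obtain ⟨b', rfl⟩ := i.stalkMap_surjective z b
  exact ⟨residue _ b', rfl⟩

/-- away from closed points means away from small closures -/
theorem not_isClosed_of_not_dim {x : X} (h : ¬ topologicalKrullDim ↥(closure ({x} : Set X)) ≤ (0 : ℕ)) :
    ¬ IsClosed ({x} : Set X) := fun hx => h (by
  rw [hx.closure_eq]
  refine Unibranch.topologicalKrullDim_le_natCast fun j s hs => ?_
  by_contra hj
  obtain ⟨j, rfl⟩ : ∃ k, j = k + 1 := ⟨j - 1, by omega⟩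
  exact (hs 0).2 (Subsingleton.elim _ _))

/-- **a sheaf with finite support on the special fibre and no global sections vanishes there** -/
theorem zeroAt_of_subsingleton_H0 (S : EtCoh.Ab X) {m : ℕ} (hm : 0 < m) (hS : EtPBC.Killed m S)
    (h : ∀ x : X, f x = closedPoint V → ¬ IsClosed ({x} : Set X) → EtPBC.ZeroAt S x)
    (h0 : Subsingleton (EtCoh.H X S 0)) (x : X) (hfx : f x = closedPoint V) : EtPBC.ZeroAt S x := by
  by_cases hx : IsClosed ({x} : Set X)
  swap
  · exact h x hfx hx
  let i : Spec (X.residueField x) ⟶ X := X.fromSpecResidueField x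
  haveI : IsClosedImmersion i := (isClosed_singleton_iff_isClosedImmersion).1 hx
  haveI : IsSepClosed (X.residueField x) := isSepClosed_residueField_special f x hx hfx
  haveI := Groth.Agent.EtPullExact.pull_preservesFiniteLimits i
  let G' := (EtCoh.pull i).obj S
  let u := (EtCoh.pullPushAdj i).unit.app S
  obtain ⟨Ω, _, _, ξ, hξ, hb⟩ := EtPBC.bijective_stalk_unit_at i (EtPushStalk.liftProp_of_closedImmersion i) S default
    (Scheme.fromSpecResidueField_apply x _)
  haveI : Epi u := by
    refine Preadditive.epi_of_isZero_cokernel u (EtPBC.isZero_of_zeroAt _ fun y => ?_)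
    by_cases hy : y = x
    · subst hy
      exact EtPBC.zeroAt_cokernel hξ u hb.2
    · exact EtPBC.zeroAt_of_epi (cokernel.π u) (EtPBC.zeroAt_push_of_zeroAt i _
        (EtPBC.isLTorsion_univ_of_killed hm (EtPBC.killed_pull i hS)) y
        fun z hz => absurd (hz.symm.trans (Scheme.fromSpecResidueField_apply x z)) hy)
  haveI hK : Subsingleton (EtCoh.H X (kernel u) 1) := by
    refine subsingleton_H_of_special_supp f (kernel u) hm (EtPBC.killed_of_mono (kernel.ι u) hS) 0 (fun y hy hd => ?_) 1
      (by omega)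
    exact EtPBC.zeroAt_of_mono (kernel.ι u) (h y hy (not_isClosed_of_not_dim hd))
  have hS' : (ShortComplex.mk (kernel.ι u) u (kernel.condition u)).ShortExact :=
    { exact := ShortComplex.exact_of_f_is_kernel _ (kernelIsKernel u) }
  have hP : Subsingleton (EtCoh.H X ((EtCoh.push i).obj G') 0) := by
    refine subsingleton_of_forall_eq 0 fun c => ?_
    obtain ⟨d, hd⟩ := Ext.covariant_sequence_exact₃ (EtCoh.const X ℤ) hS' c (rfl : 0 + 1 = 1)
      (@Subsingleton.elim _ hK _ _)
    rw [← hd, @Subsingleton.elim _ h0 d 0, Ext.zero_comp]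
  have hG : Subsingleton (EtCoh.H (Spec (X.residueField x)) G' 0) :=
    ((EtMV.HofPush_bijective i G' (fun n => EtIntegral.Rpush_succ_isZero i G' n) 0).2).subsingleton
  let K := X.residueField x
  haveI : IsSepClosed (ResidueField K) := Hensel.isSepClosed_of_ringEquiv (RingEquiv.ofBijective (residue K)
    ⟨(residue K).injective, residue_surjective⟩)
  have hhom : Subsingleton (EtCoh.const (Spec (CommRingCat.of K)) ℤ ⟶ G') :=
    (Ext.mk₀_bijective _ _).1.subsingleton
  have hsec : Subsingleton (EtCoh.sect G' (EtCoh.top (Spec (CommRingCat.of K)))) :=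
    @Equiv.subsingleton _ _ ((EtStrictLoc.secIso (Spec (CommRingCat.of K))).app G').addCommGroupIsoToAddEquiv.toEquiv.symm hhom
  have hst : IsZero ((EtCoh.stalk (EtHens.pt K)).obj G') :=
    @AddCommGrpCat.isZero_of_subsingleton _ ((EtHens.bijective_germ K G').2.subsingleton)
  have hpt : (EtHens.pt K ≫ i) (default : Spec (CommRingCat.of (ResidueField K))) = x := by
    rw [Scheme.Hom.comp_apply]; exact Scheme.fromSpecResidueField_apply x _
  exact (EtPBC.isZero_stalk_iff_zeroAt hpt S).1 (hst.of_iso ((EtStalk.stalkPullIso i (EtHens.pt K)).app S))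

variable {Xt : Scheme.{u}} (h : Xt ⟶ X) [PreservesFiniteLimits (EtCoh.pull h)]

/-- **bijective restriction to `Xt` forces the vanishing cycles to vanish along the special fibre, when they
vanish outside finitely many of its points** -/
theorem zeroAt_of_bijective_Hpull (G : EtCoh.Ab X) {m : ℕ} (hm : 0 < m) (hG : EtPBC.Killed m G)
    (hout : ∀ x : X, f x = closedPoint V → ¬ IsClosed ({x} : Set X) →
      EtPBC.ZeroAt (kernel ((EtCoh.pullPushAdj h).unit.app G)) x ∧
        EtPBC.ZeroAt (cokernel ((EtCoh.pullPushAdj h).unit.app G)) x ∧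
          ∀ q : ℕ, EtPBC.ZeroAt ((EtCoh.Rpush h (q + 1)).obj ((EtCoh.pull h).obj G)) x)
    (hb : ∀ k, Function.Bijective (EtCore.Hpull h G k)) (x : X) (hx : f x = closedPoint V) :
    EtPBC.ZeroAt (kernel ((EtCoh.pullPushAdj h).unit.app G)) x ∧
      EtPBC.ZeroAt (cokernel ((EtCoh.pullPushAdj h).unit.app G)) x ∧
        ∀ q : ℕ, EtPBC.ZeroAt ((EtCoh.Rpush h (q + 1)).obj ((EtCoh.pull h).obj G)) x := by
  let η := (EtCoh.pullPushAdj h).unit.app G
  let R := fun q : ℕ => (EtCoh.Rpush h (q + 1)).obj ((EtCoh.pull h).obj G)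
  have hKk : EtPBC.Killed m (kernel η) := EtPBC.killed_of_mono (kernel.ι η) hG
  have hCk : EtPBC.Killed m (cokernel η) :=
    EtPBC.killed_of_epi (cokernel.π η) (EtPBC.killed_push h (EtPBC.killed_pull h hG))
  have hRk : ∀ q, EtPBC.Killed m (R q) := fun q => EtPBC.killed_Rpush h (q + 1) (EtPBC.killed_pull h hG)
  have hKp : ∀ p, 0 < p → Subsingleton (EtCoh.H X (kernel η) p) := fun p hp =>
    subsingleton_H_of_special_supp f _ hm hKk 0 (fun y hy hd => (hout y hy (not_isClosed_of_not_dim hd)).1) p (by omega)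
  have hCp : ∀ p, 0 < p → Subsingleton (EtCoh.H X (cokernel η) p) := fun p hp =>
    subsingleton_H_of_special_supp f _ hm hCk 0 (fun y hy hd => (hout y hy (not_isClosed_of_not_dim hd)).2.1) p
      (by omega)
  have hRp : ∀ q p, 0 < p → Subsingleton (EtCoh.H X (R q) p) := fun q p hp =>
    subsingleton_H_of_special_supp f _ hm (hRk q) 0 (fun y hy hd => (hout y hy (not_isClosed_of_not_dim hd)).2.2 q) p
      (by omega)
  have e : ∀ k, ⇑(EtCore.Hpull h G k) = ⇑(EtLim.HofPush h ((EtCoh.pull h).obj G) k) ∘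
      fun a => Ext.comp a (Ext.mk₀ η) (add_zero k) := fun k => funext fun a => by
    show _ = EtLim.HofPush h ((EtCoh.pull h).obj G) k _
    rw [EtMV.HofPush_eq]
    exact ((EtMV.toH _ _ k).apply_symm_apply _).symm.trans (congrArg _ (EtMV.U_unit h G k a).symm)
  let S₁ := ShortComplex.mk (kernel.ι η) (Abelian.factorThruImage η) (by
    rw [← cancel_mono (Abelian.image.ι η), Category.assoc, Abelian.image.fac, kernel.condition, zero_comp])
  let S₂ := ShortComplex.mk (Abelian.image.ι η) (cokernel.π η) (kernel.condition _)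
  have hS₁ : S₁.ShortExact :=
    { exact := ShortComplex.exact_of_f_is_kernel _ (KernelFork.IsLimit.ofι' _ _ fun g hg =>
        ⟨kernel.lift η g (by
          have h' := congrArg (· ≫ Abelian.image.ι η) hg
          simpa only [S₁, Category.assoc, Abelian.image.fac, zero_comp] using h'), kernel.lift_ι _ _ _⟩) }
  have hS₂ : S₂.ShortExact :=
    { exact := ShortComplex.exact_of_f_is_kernel _ (kernelIsKernel _) }
  have hη0 : Function.Bijective fun a : EtCoh.H X G 0 => Ext.comp a (Ext.mk₀ η) (add_zero 0) := by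
    have h1 := HofPush_high h ((EtCoh.pull h).obj G) 0
    exact (Function.Bijective.of_comp_iff' ⟨h1.2 fun _ _ hh => absurd hh (by omega),
      h1.1 fun _ _ hh => absurd hh (by omega)⟩ _).1 (e 0 ▸ hb 0)
  have hη1 : Function.Injective fun a : EtCoh.H X G 1 => Ext.comp a (Ext.mk₀ η) (add_zero 1) :=
    Function.Injective.of_comp (e 1 ▸ (hb 1).1)
  have hK0 : Subsingleton (EtCoh.H X (kernel η) 0) := by
    refine subsingleton_of_forall_eq 0 fun a => ?_
    obtain ⟨t, rfl⟩ := (Ext.mk₀_bijective _ _).2 a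
    have h1 : (Ext.mk₀ (t ≫ kernel.ι η) : EtCoh.H X G 0) = 0 := hη0.1 (by
      show Ext.comp (Ext.mk₀ (t ≫ kernel.ι η)) (Ext.mk₀ η) (add_zero 0) = Ext.comp 0 (Ext.mk₀ η) (add_zero 0)
      rw [Ext.mk₀_comp_mk₀, Category.assoc, kernel.condition, comp_zero, Ext.mk₀_zero, Ext.zero_comp])
    rw [← Ext.mk₀_zero] at h1
    rw [zero_of_comp_mono (kernel.ι η) ((Ext.mk₀_bijective _ _).1 h1), Ext.mk₀_zero]
  have hC0 : Subsingleton (EtCoh.H X (cokernel η) 0) := by
    refine subsingleton_of_forall_eq 0 fun a => ?_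
    obtain ⟨z, hz⟩ := Ext.covariant_sequence_exact₃ (EtCoh.const X ℤ) hS₁ (Ext.comp a hS₂.extClass (zero_add 1))
      (rfl : 1 + 1 = 2) (@Subsingleton.elim _ (hKp 2 (by omega)) _ _)
    have hzero : z = 0 := hη1 (by
      show Ext.comp z (Ext.mk₀ η) (add_zero 1) = Ext.comp 0 (Ext.mk₀ η) (add_zero 1)
      rw [Ext.zero_comp, show Ext.mk₀ η = (Ext.mk₀ (Abelian.factorThruImage η)).comp (Ext.mk₀ (Abelian.image.ι η))
        (add_zero 0) by rw [Ext.mk₀_comp_mk₀, Abelian.image.fac], ← Ext.comp_assoc_of_second_deg_zero]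
      erw [hz]
      rw [Ext.comp_assoc (a₂₃ := 1) _ _ _ (zero_add 1) (add_zero 1) (by lia)]
      exact (congrArg (fun t => Ext.comp a t (zero_add 1)) hS₂.extClass_comp).trans (Ext.comp_zero _ _ _ _ _))
    subst hzero
    rw [Ext.zero_comp] at hz
    obtain ⟨y, rfl⟩ := Ext.covariant_sequence_exact₃ (EtCoh.const X ℤ) hS₂ a (zero_add 1) hz.symm
    obtain ⟨w, rfl⟩ := hη0.2 y
    show Ext.comp (Ext.comp w (Ext.mk₀ η) (add_zero 0)) (Ext.mk₀ (cokernel.π η)) (add_zero 0) = 0
    rw [Ext.comp_assoc_of_second_deg_zero, Ext.mk₀_comp_mk₀, cokernel.condition, Ext.mk₀_zero, Ext.comp_zero]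
  have hK : ∀ p, Subsingleton (EtCoh.H X (kernel η) p) := fun p =>
    p.eq_zero_or_pos.elim (fun hp => hp ▸ hK0) (hKp p)
  have hC : ∀ p, Subsingleton (EtCoh.H X (cokernel η) p) := fun p =>
    p.eq_zero_or_pos.elim (fun hp => hp ▸ hC0) (hCp p)
  have hηk : ∀ k, Function.Bijective fun a : EtCoh.H X G k => Ext.comp a (Ext.mk₀ η) (add_zero k) := fun k => by
    refine ⟨fun a b hab => ?_, fun y => ?_⟩
    · rw [← sub_eq_zero]
      have h3 : Ext.comp (a - b) (Ext.mk₀ η) (add_zero k) = 0 := by
        rw [sub_eq_add_neg, Ext.add_comp, Ext.neg_comp]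
        exact add_neg_eq_zero.2 hab
      rw [show Ext.mk₀ η = (Ext.mk₀ (Abelian.factorThruImage η)).comp (Ext.mk₀ (Abelian.image.ι η))
        (add_zero 0) by rw [Ext.mk₀_comp_mk₀, Abelian.image.fac], ← Ext.comp_assoc_of_second_deg_zero] at h3
      have h4 : Ext.comp (a - b) (Ext.mk₀ (Abelian.factorThruImage η)) (add_zero k) = 0 := by
        rcases k with _ | j
        · obtain ⟨t, ht⟩ := (Ext.mk₀_bijective _ _).2 (Ext.comp (a - b) (Ext.mk₀ (Abelian.factorThruImage η)) (add_zero 0))
          rw [← ht, Ext.mk₀_comp_mk₀, ← Ext.mk₀_zero] at h3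
          rw [← ht, zero_of_comp_mono (Abelian.image.ι η) ((Ext.mk₀_bijective _ _).1 h3), Ext.mk₀_zero]
        · obtain ⟨t, ht⟩ := Ext.covariant_sequence_exact₁ (EtCoh.const X ℤ) hS₂ _ h3 rfl
          rw [← ht, @Subsingleton.elim _ (hC j) t 0, Ext.zero_comp]
      obtain ⟨t, ht⟩ := Ext.covariant_sequence_exact₂ (EtCoh.const X ℤ) hS₁ _ h4
      rw [← ht, @Subsingleton.elim _ (hK k) t 0, Ext.zero_comp]
    · obtain ⟨z, rfl⟩ := Ext.covariant_sequence_exact₂ (EtCoh.const X ℤ) hS₂ y (@Subsingleton.elim _ (hC k) _ _)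
      obtain ⟨w, rfl⟩ := Ext.covariant_sequence_exact₃ (EtCoh.const X ℤ) hS₁ z rfl (@Subsingleton.elim _ (hK _) _ _)
      refine ⟨w, ?_⟩
      show Ext.comp w (Ext.mk₀ η) (add_zero k) = _
      rw [Ext.comp_assoc_of_second_deg_zero, Ext.mk₀_comp_mk₀, Abelian.image.fac]
  have hof : ∀ k, Function.Bijective (EtLim.HofPush h ((EtCoh.pull h).obj G) k) := fun k =>
    (Function.Bijective.of_comp_iff _ (hηk k)).1 (e k ▸ hb k)
  have hR : ∀ q, Subsingleton (EtCoh.H X (R q) 0) := fun q => by
    induction q using Nat.strong_induction_on with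
    | _ q ih =>
      exact subsingleton_H0_Rpush h _ q (fun i hi p => p.eq_zero_or_pos.elim (fun hp => hp ▸ ih i hi) (hRp i p)) hof
  exact ⟨zeroAt_of_subsingleton_H0 f _ hm hKk (fun y hy hc => (hout y hy hc).1) hK0 x hx,
    zeroAt_of_subsingleton_H0 f _ hm hCk (fun y hy hc => (hout y hy hc).2.1) hC0 x hx,
    fun q => zeroAt_of_subsingleton_H0 f _ hm (hRk q) (fun y hy hc => (hout y hy hc).2.2 q) (hR q) x hx⟩

end Groth.Agent.NearCyc
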