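import Groth.Agent.EtAcycX.LAFibre
import Groth.Agent.NearCyc.SpecVanish
import Groth.Agent.NearCyc.HpullConst
import Groth.Agent.LAcyc.ProperFLC
import Mathlib

/-! Local acyclicity of proper morphisms with locally constant higher direct images, from acyclicity outside a
finite closed subset. -/

set_option autoImplicit false
set_option backward.isDefEq.respectTransparency false
set_option backward.isDefEq.respectTransparency.types false
set_option linter.unusedSectionVars false
set_option linter.auxLemma false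
set_option linter.overlappingInstances false
set_option linter.style.haveILetI false
set_option maxHeartbeats 1000000

universe u

open CategoryTheory CategoryTheory.Limits CategoryTheory.Abelian AlgebraicGeometry Opposite IsLocalRing
open scoped TensorProduct

noncomputable section

namespace Groth.Agent.NearCyc

attribute [local instance 100000] EtCoh.H._proof_1 Groth.Agent.EtMV.hext
attribute [local instance 200000] Groth.Agent.EtMV.hextAb

/-- the lift of a strict localisation to a base change is a strict localisation -/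
theorem exists_alg_of_lift {X S : Scheme.{u}} (f : X ⟶ S) {s : S} (QS : EtBCQ.SH S s) {X' : Scheme.{u}}
    (p : X' ⟶ X) (f' : X' ⟶ Spec (CommRingCat.of QS.R)) (cX : IsPullback p f' f QS.spec) {x : X}
    (QX : EtBCQ.SH X x) (ψ : QS.R →+* QX.R) [IsLocalHom ψ]
    (v : Spec (CommRingCat.of QX.R) ⟶ X') (hvp : v ≫ p = QX.spec)
    (hvf : v ≫ f' = Spec.map (CommRingCat.ofHom ψ)) (x' : X') (hx' : v (closedPoint QX.R) = x') :
    ∃ (_ : Algebra (X'.presheaf.stalk x') QX.R) (_ : IsLocalHom (algebraMap (X'.presheaf.stalk x') QX.R))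
      (_ : _root_.Hensel.IsStrictHenselization (X'.presheaf.stalk x') QX.R), Hens2.specOf X' x' QX.R = v := by
  let Q := EtBCQ.mkSH X' x'
  obtain ⟨χ, hχl, hχv⟩ := EtBCQ.exists_strict_hom Q v hx'
  haveI := hχl
  obtain ⟨ι, ⟨hι, hχι⟩, -⟩ := EtBCQ.existsUnique_strict QX (B := Q.R) (C := QX.R) (Q.spec ≫ p) (RingHom.id QX.R) χ
    (by rw [CommRingCat.ofHom_id, Spec.map_id, Category.id_comp, ← Category.assoc, hχv, hvp])
  obtain ⟨α, hα⟩ := Spec.map_surjective (Q.spec ≫ f')
  have hχα : χ.comp α.hom = ψ := by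
    have h1 : Spec.map (α ≫ CommRingCat.ofHom χ) = Spec.map (CommRingCat.ofHom ψ) := by
      rw [Spec.map_comp, hα, ← Category.assoc, hχv, hvf]
    exact congrArg CommRingCat.Hom.hom (Spec.map_injective h1)
  have hιψ : ι.comp ψ = α.hom := by
    have hsp : Spec.map α ≫ QS.spec = Q.spec ≫ p ≫ f := by
      rw [hα, Category.assoc, ← cX.w]
    have hψ' : Spec.map (CommRingCat.ofHom ψ) ≫ QS.spec = QX.spec ≫ f := by
      rw [← hvf, Category.assoc, ← cX.w, ← Category.assoc, hvp]
    refine (EtBCQ.existsUnique_strict QS (B := Q.R) (C := QX.R) (Q.spec ≫ p ≫ f) ψ χ ?_).unique ⟨?_, ?_⟩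
      ⟨hsp, hχα⟩
    · exact (((Category.assoc _ _ _).symm.trans (congrArg (· ≫ p ≫ f) hχv)).trans
        ((Category.assoc _ _ _).symm.trans (congrArg (· ≫ f) hvp))).trans hψ'.symm
    · exact (congrArg (· ≫ QS.spec) (by rw [CommRingCat.ofHom_comp, Spec.map_comp])).trans
        ((Category.assoc _ _ _).trans ((congrArg (Spec.map (CommRingCat.ofHom ι) ≫ ·) hψ').trans
          ((Category.assoc _ _ _).symm.trans ((congrArg (· ≫ f) hι).trans (Category.assoc _ _ _)))))
    · rw [← RingHom.comp_assoc, hχι, RingHom.id_comp]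
  have hιv : Spec.map (CommRingCat.ofHom ι) ≫ v = Q.spec := by
    apply cX.hom_ext
    · rw [Category.assoc, hvp, hι]
    · rw [Category.assoc, hvf, ← Spec.map_comp, ← CommRingCat.ofHom_comp, hιψ, ← hα]
      rfl
  have hιχ : ι.comp χ = RingHom.id Q.R := by
    refine (EtBCQ.existsUnique_strict Q (B := Q.R) (C := QX.R) Q.spec χ χ rfl).unique ⟨?_, ?_⟩
      ⟨by rw [CommRingCat.ofHom_id, Spec.map_id, Category.id_comp], RingHom.comp_id χ⟩
    · rw [CommRingCat.ofHom_comp, Spec.map_comp, Category.assoc, hχv, hιv]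
    · rw [← RingHom.comp_assoc, hχι, RingHom.id_comp]
  let e : Q.R ≃+* QX.R := RingEquiv.ofRingHom χ ι hχι hιχ
  letI alg : Algebra (X'.presheaf.stalk x') QX.R := (χ.comp (algebraMap (X'.presheaf.stalk x') Q.R)).toAlgebra
  haveI hl : IsLocalHom (algebraMap (X'.presheaf.stalk x') QX.R) :=
    RingHom.isLocalHom_comp χ (algebraMap (X'.presheaf.stalk x') Q.R)
  haveI hsh : _root_.Hensel.IsStrictHenselization (X'.presheaf.stalk x') QX.R :=
    WeakEt.isStrictHenselization_of_algEquiv (AlgEquiv.ofRingEquiv (f := e) fun _ => rfl)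
  exact ⟨alg, hl, hsh, (EtBCQ.spec_comp_spec Q χ).symm.trans hχv⟩

/-- from the stalks of the unit and the higher direct images to the restriction maps -/
theorem bijective_HpullVia_of_stalks {X' Xt : Scheme.{u}} (h : Xt ⟶ X') [QuasiCompact h] [QuasiSeparated h]
    [PreservesFiniteLimits (EtCoh.pull h)] (G : EtCoh.Ab X') (x' : X') (R : Type u) [CommRing R]
    [IsLocalRing R] [Algebra (X'.presheaf.stalk x') R] [IsLocalHom (algebraMap (X'.presheaf.stalk x') R)]
    [_root_.Hensel.IsStrictHenselization (X'.presheaf.stalk x') R] [HenselianLocalRing R] [IsSepClosed (ResidueField R)]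
    {W : Scheme.{u}} (a : W ⟶ Xt) (m : W ⟶ Spec (CommRingCat.of R))
    (HX : IsPullback a m h (Hens2.specOf X' x' R)) [PreservesFiniteLimits (EtCoh.pull m)]
    (h0 : IsIso ((EtCoh.stalk (Hens2.geomPt X' x' R)).map ((EtCoh.pullPushAdj h).unit.app G)))
    (h1 : ∀ q : ℕ, Subsingleton ((EtCoh.stalk (Hens2.geomPt X' x' R)).obj
      ((EtCoh.Rpush h (q + 1)).obj ((EtCoh.pull h).obj G)))) (q : ℕ) :
    Function.Bijective (EtCore.HpullVia m (Hens2.specOf X' x' R) (a ≫ h) HX.w.symm G q) := by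
  let st := EtCoh.stalk (Hens2.geomPt X' x' R)
  have w : h ≫ 𝟙 X' = h ≫ 𝟙 X' := rfl
  refine (EtBCQ.isIso_stalk_bcQ_iff (𝟙 X') (𝟙 X') h h w G q x' R x' R (RingHom.id R)
    (by simp) (Hens2.specOf X' x' R) (𝟙 _) (IsPullback.id_vert (Hens2.specOf X' x' R)) a m HX m HX.w.symm
    (by simp)).1 ?_
  rcases q with _ | q
  · have h' := EtBC.bcQ_zero_compat (𝟙 X') (𝟙 X') h h w G
    let A := EtCoh.baseChange0 (𝟙 X') (𝟙 X') h h w G
    haveI := h0
    haveI : IsIso (st.map A) := by
      let adj := EtCoh.pullPushAdj (𝟙 X')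
      let η := (EtCoh.pullPushAdj h).unit.app G
      haveI := EtAcycX.isIso_counit_id G
      let t : (EtCoh.push (𝟙 X')).obj ((EtCoh.push h).obj ((EtCoh.pull h).obj G)) ⟶
          (EtCoh.push (𝟙 X')).obj ((EtCoh.push h).obj ((EtCoh.pull h).obj G)) :=
        (EtCoh.pushComp (𝟙 X') h).hom.app _ ≫ (EtCoh.pushCongr w).hom.app _ ≫ (EtCoh.pushComp (𝟙 X') h).inv.app _
      haveI : IsIso t := inferInstance
      haveI := EtAcycX.isIso_counit_id ((EtCoh.push h).obj ((EtCoh.pull h).obj G))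
      haveI := EtAcycX.isIso_counit_id ((EtCoh.pull h ⋙ EtCoh.push h).obj G)
      haveI : IsIso (st.map (adj.counit.app ((EtCoh.pull h ⋙ EtCoh.push h).obj G))) := inferInstance
      have hA : A = (EtCoh.pull (𝟙 X')).map ((EtCoh.push (𝟙 X')).map η) ≫
          (EtCoh.pull (𝟙 X')).map t ≫ adj.counit.app _ := by
        show (adj.homEquiv _ _).symm _ = _
        rw [Adjunction.homEquiv_counit]
        simp only [t, η, adj, Functor.map_comp, Category.assoc]
      have hn : st.map ((EtCoh.pull (𝟙 X')).map ((EtCoh.push (𝟙 X')).map η)) ≫ st.map (adj.counit.app _) =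
          st.map (adj.counit.app G) ≫ st.map η := by
        rw [← Functor.map_comp, ← Functor.map_comp]
        exact congrArg st.map (adj.counit.naturality η)
      haveI : IsIso (st.map η) := h0
      haveI : IsIso (st.map ((EtCoh.pull (𝟙 X')).map ((EtCoh.push (𝟙 X')).map η))) := by
        haveI : IsIso (st.map ((EtCoh.pull (𝟙 X')).map ((EtCoh.push (𝟙 X')).map η)) ≫
            st.map (adj.counit.app ((EtCoh.pull h ⋙ EtCoh.push h).obj G))) := by rw [hn]; infer_instance
        exact IsIso.of_isIso_comp_right _ (st.map (adj.counit.app ((EtCoh.pull h ⋙ EtCoh.push h).obj G)))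
      rw [hA, Functor.map_comp]
      infer_instance
    have h3 : st.map A ≫ st.map ((EtCoh.push h).toRightDerivedZero.app ((EtCoh.pull h).obj G)) =
        st.map ((EtCoh.pull (𝟙 X')).map ((EtCoh.push (𝟙 X')).toRightDerivedZero.app G)) ≫
          st.map (EtBC.bcQ (𝟙 X') (𝟙 X') h h w 0 G) := by
      rw [← st.map_comp, ← st.map_comp]
      exact congrArg st.map h'.symm
    haveI : IsIso (st.map ((EtCoh.pull (𝟙 X')).map ((EtCoh.push (𝟙 X')).toRightDerivedZero.app G)) ≫
        st.map (EtBC.bcQ (𝟙 X') (𝟙 X') h h w 0 G)) := by rw [← h3]; infer_instance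
    exact IsIso.of_isIso_comp_left
      (st.map ((EtCoh.pull (𝟙 X')).map ((EtCoh.push (𝟙 X')).toRightDerivedZero.app G))) _
  · haveI := EtAcycX.subsingleton_stalk_rpush_id G x' R q
    haveI h1' : Subsingleton ((EtCoh.stalk (Hens2.geomPt X' x' R ≫ 𝟙 X')).obj
        ((EtCoh.Rpush (𝟙 X') (q + 1)).obj G)) := by
      rw [Category.comp_id]; assumption
    haveI h2 : Subsingleton (st.obj ((EtCoh.pull (𝟙 X')).obj ((EtCoh.Rpush (𝟙 X') (q + 1)).obj G))) :=
      ((EtStalk.stalkPullIso (𝟙 X') (Hens2.geomPt X' x' R)).symm.app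
        ((EtCoh.Rpush (𝟙 X') (q + 1)).obj G)).addCommGroupIsoToAddEquiv.toEquiv.subsingleton
    haveI h3 : Subsingleton (st.obj ((EtCoh.Rpush h (q + 1)).obj ((EtCoh.pull h).obj G))) := h1 q
    exact (ConcreteCategory.isIso_iff_bijective _).2 ⟨fun _ _ _ => h2.elim _ _, fun y => ⟨0, h3.elim _ _⟩⟩

/-- from the restriction maps on the lifted strict localisation to the original ones -/
theorem bijective_Hpull_of_HpullVia_over {X X' W : Scheme.{u}} {R : CommRingCat.{u}} (m : W ⟶ Spec R)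
    [PreservesFiniteLimits (EtCoh.pull m)] (v : Spec R ⟶ X') (p : X' ⟶ X) (t : Spec R ⟶ X) (hvp : v ≫ p = t)
    (c : W ⟶ X') (w : m ≫ v = c) (F : EtCoh.Ab X) (q : ℕ)
    (hF : Function.Bijective (EtCore.HpullVia m v c w ((EtCoh.pull p).obj F) q)) :
    Function.Bijective (EtCore.Hpull m ((EtCoh.pull t).obj F) q) := by
  obtain ⟨k⟩ := EtCons.nonempty_pull_pull v p t hvp
  haveI := EtAcycX.isIso_ψh m v c w ((EtCoh.pull p).obj F)
  exact EtAcycX.bijective_Hpull_of_iso m (k.app F).symm ((Function.Bijective.of_comp_iff'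
    (EtAcycX.bijective_comp_iso (EtLimit.ψh m v c w ((EtCoh.pull p).obj F)) q) _).1 hF)

/-- closed points from finiteness -/
theorem isClosed_of_finite {T R : Scheme.{u}} (g : T ⟶ R) [IsFinite g] (z : T) (hz : IsClosed ({g z} : Set R)) :
    IsClosed ({z} : Set T) := by
  refine isClosed_of_closure_subset fun y hy => ?_
  have hsp : z ⤳ y := specializes_iff_mem_closure.2 hy
  have hgy : g y = g z := Set.mem_singleton_iff.1 (hz.closure_eq ▸
    specializes_iff_mem_closure.1 (hsp.map g.continuous))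
  haveI := g.isDiscrete_preimage_singleton (g z)
  have h1 : (⟨z, rfl⟩ : ↥(g ⁻¹' {g z})) ⤳ ⟨y, hgy⟩ := (subtype_specializes_iff _ _).2 hsp
  haveI : DiscreteTopology ↥(g ⁻¹' {g z}) := (g.isDiscrete_preimage_singleton (g z)).to_subtype
  exact (congrArg Subtype.val h1.eq).symm

section Main

variable {X S : Scheme.{u}} (f : X ⟶ S) [IsProper f] (F : EtCoh.Ab X) {T : Scheme.{u}} (i : T ⟶ X) [IsClosedImmersion i]
  [IsFinite (i ≫ f)] (hla : ∀ x : X, x ∉ Set.range i.base → SGA4h.IsLARelAt f F x) {s : S} (QS : EtBCQ.SH S s)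

include hla in
/-- vanishing cycles vanish at the non-closed points of the special fibre -/
theorem zeroAt_out {X' : Scheme.{u}} (p : X' ⟶ X) (f' : X' ⟶ Spec (CommRingCat.of QS.R))
    (cX : IsPullback p f' f QS.spec) (Ω : Type u) [Field Ω] [IsSepClosed Ω] (τ : QS.R →+* Ω) {Xt : Scheme.{u}}
    (h : Xt ⟶ X') (ft : Xt ⟶ Spec (CommRingCat.of Ω)) (ct : IsPullback h ft f' (Spec.map (CommRingCat.ofHom τ)))
    [QuasiCompact h] [QuasiSeparated h] [PreservesFiniteLimits (EtCoh.pull h)] (y : X')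
    (hy : f' y = closedPoint QS.R) (hyc : ¬ IsClosed ({y} : Set X')) :
    EtPBC.ZeroAt (kernel ((EtCoh.pullPushAdj h).unit.app ((EtCoh.pull p).obj F))) y ∧
      EtPBC.ZeroAt (cokernel ((EtCoh.pullPushAdj h).unit.app ((EtCoh.pull p).obj F))) y ∧
        ∀ q : ℕ, EtPBC.ZeroAt ((EtCoh.Rpush h (q + 1)).obj ((EtCoh.pull h).obj ((EtCoh.pull p).obj F))) y := by
  have hout : p y ∉ Set.range i.base := by
    rintro ⟨t, ht⟩
    have hpb := (IsPullback.of_hasPullback i p).paste_vert cX
    haveI : IsFinite (pullback.snd i p ≫ f') := MorphismProperty.of_isPullback (P := @IsFinite) hpb ‹_›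
    haveI : IsClosedImmersion (pullback.snd i p) := MorphismProperty.pullback_snd _ _ ‹_›
    obtain ⟨z, hz⟩ : y ∈ Set.range (pullback.snd i p) := by
      rw [Scheme.Pullback.range_snd]; exact ⟨t, ht⟩
    refine hyc ?_
    subst hz
    have h1 := isClosed_of_finite (pullback.snd i p ≫ f') z (by
      rw [Scheme.Hom.comp_apply, hy]; exact IsLocalRing.isClosed_singleton_closedPoint QS.R)
    rw [← Set.image_singleton]
    exact (pullback.snd i p).isClosedEmbedding.isClosedMap _ h1
  obtain ⟨QX, ψ, v, hψl, _, _, hsh, hψ, hvp, hvf, hv⟩ := EtAcycX.exists_strict_over f QS p f' cX y hy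
  haveI := hψl
  haveI := hsh
  have hfx : s = f.base (p y) := by
    rw [← Scheme.Hom.comp_apply, cX.w, Scheme.Hom.comp_apply, hy, QS.spec_closed]
  subst hfx
  letI : Algebra QS.R QX.R := ψ.toAlgebra
  haveI : IsLocalHom (algebraMap QS.R QX.R) := hψl
  letI : Algebra QS.R Ω := τ.toAlgebra
  let m : Spec (CommRingCat.of (QX.R ⊗[QS.R] Ω)) ⟶ Spec (CommRingCat.of QX.R) :=
    Spec.map (CommRingCat.ofHom (algebraMap QX.R (QX.R ⊗[QS.R] Ω)))
  haveI := EtCohDesc.pull_preservesFiniteLimits m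
  have hsq : IsPullback (EtAcycX.vcProj QS.R QX.R Ω) m (Spec.map (CommRingCat.ofHom τ)) (Spec.map (CommRingCat.ofHom ψ)) :=
    (isPullback_SpecMap_of_isPushout _ _ _ _ (CommRingCat.isPushout_tensorProduct QS.R QX.R Ω)).flip
  let a := ct.lift (m ≫ v) (EtAcycX.vcProj QS.R QX.R Ω) (by rw [Category.assoc, hvf]; exact hsq.w.symm)
  have HX : IsPullback a m h (Hens2.specOf X' y QX.R) := by
    rw [hv]
    refine IsPullback.of_right ?_ (ct.lift_fst _ _ _) ct.flip
    rw [ct.lift_snd, hvf]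
    exact hsq
  have hm : ∀ q, Function.Bijective
      (EtCore.HpullVia m (Hens2.specOf X' y QX.R) (a ≫ h) HX.w.symm ((EtCoh.pull p).obj F) q) := fun q =>
    EtAcycX.bijective_HpullVia_over m (Hens2.specOf X' y QX.R) p QX.spec (by rw [hv, hvp]) (a ≫ h) HX.w.symm F q
      (hla (p y) hout QS.R QX.R (EtBCQ.comp_alg_of_spec f QS QX ψ hψ) Ω q)
  haveI : HenselianLocalRing QX.R := QX.sh.henselian
  haveI : IsSepClosed (ResidueField QX.R) := QX.sh.isSepClosure.1
  have H := fun n => EtAcycX.stalk_acyclic h ((EtCoh.pull p).obj F) y QX.R a m HX (n := n) fun q _ => hm q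
  have hpt := EtBCQ.geomPt_apply y QX.R
  have hb := (ConcreteCategory.isIso_iff_bijective _).1 (H 0).1
  exact ⟨EtPBC.zeroAt_kernel hpt _ hb.1, EtPBC.zeroAt_cokernel hpt _ hb.2, fun q =>
    (EtPBC.isZero_stalk_iff_zeroAt hpt _).1 (@AddCommGrpCat.isZero_of_subsingleton _
      ((H (q + 1)).2 q (Nat.lt_succ_self q)))⟩

include hla in
/-- **local acyclicity over a strict localisation of the base** -/
theorem bijective_Hpull_strict {n : ℕ} (hn : 0 < n) (hFn : EtPBC.Killed n F)
    (hlc : ∀ k : ℕ, EtCoh.IsFiniteLocallyConstant ((EtCoh.Rpush f k).obj F)) {x : X} (QX : EtBCQ.SH X x)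
    (ψ : QS.R →+* QX.R) [IsLocalHom ψ] (hψ : Spec.map (CommRingCat.ofHom ψ) ≫ QS.spec = QX.spec ≫ f)
    (Ω : Type u) [Field Ω] [IsSepClosed Ω] (τ : QS.R →+* Ω) {W : Scheme.{u}}
    (m : W ⟶ Spec (CommRingCat.of QX.R)) [PreservesFiniteLimits (EtCoh.pull m)] (π : W ⟶ Spec (CommRingCat.of Ω))
    (hsq : IsPullback π m (Spec.map (CommRingCat.ofHom τ)) (Spec.map (CommRingCat.ofHom ψ))) (q : ℕ) :
    Function.Bijective (EtCore.Hpull m ((EtCoh.pull QX.spec).obj F) q) := by
  let X' := pullback f QS.spec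
  let p := pullback.fst f QS.spec
  let f' := pullback.snd f QS.spec
  have cX : IsPullback p f' f QS.spec := IsPullback.of_hasPullback f QS.spec
  haveI : IsProper f' := MorphismProperty.pullback_snd _ _ ‹_›
  let v := cX.lift QX.spec (Spec.map (CommRingCat.ofHom ψ)) hψ.symm
  let x' : X' := v (closedPoint QX.R)
  have hx' : f' x' = closedPoint QS.R := by
    show (v ≫ f') (closedPoint QX.R) = _
    rw [cX.lift_snd]
    exact EtBCQ.Spec_closedPoint' ψ
  obtain ⟨_, _, _, hv⟩ := exists_alg_of_lift f QS p f' cX QX ψ v (cX.lift_fst _ _ _) (cX.lift_snd _ _ _) x' rfl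
  let τS := Spec.map (CommRingCat.ofHom τ)
  haveI : IsAffineHom τS := isAffineHom_of_isAffine τS
  let h := pullback.fst f' τS
  let ft := pullback.snd f' τS
  have ct : IsPullback h ft f' τS := IsPullback.of_hasPullback f' τS
  haveI : IsAffineHom h := MorphismProperty.pullback_fst _ _ ‹_›
  haveI := EtCohDesc.pull_preservesFiniteLimits h
  let G := (EtCoh.pull p).obj F
  have hG : EtPBC.Killed n G := EtPBC.killed_pull p hFn
  haveI : HenselianLocalRing QS.R := inferInstance
  have hb : ∀ k, Function.Bijective (EtCore.Hpull h G k) := fun k => by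
    obtain ⟨b⟩ := LAcyc.nonempty_pull_rpush f QS.spec F (EtPBC.isLTorsion_univ_of_killed hn hFn) k
    have hflc := EtCons.isFLC_pull QS.spec (hlc k)
    obtain ⟨M, ⟨a⟩⟩ := EtAcycX.exists_iso_constB QS.R _ (LAcyc.isLocallyConstant_of_isFLC hflc)
    obtain ⟨μ⟩ := exists_stalk_constB_equiv QS.R M
    haveI := EtCons.finite_stalk_of_isConstructible _ (EtCons.isConstructible_of_isFLC
      (EtCons.isFLC_of_iso a hflc)) (EtHens.pt QS.R)
    haveI : Finite M := Finite.of_equiv _ μ.symm
    exact bijective_Hpull_of_const f' τS h ft ct G (EtPBC.isLTorsion_univ_of_killed hn hG) k M (b.symm ≪≫ a)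
  obtain ⟨hK, hC, hR⟩ := zeroAt_of_bijective_Hpull f' h G hn hG
    (fun y hy hyc => zeroAt_out f F i hla QS p f' cX Ω τ h ft ct y hy hyc) hb x' hx'
  let a := ct.lift (m ≫ v) π (by rw [Category.assoc, cX.lift_snd]; exact hsq.w.symm)
  have HX : IsPullback a m h (Hens2.specOf X' x' QX.R) := by
    rw [hv]
    refine IsPullback.of_right ?_ (ct.lift_fst _ _ _) ct.flip
    rw [ct.lift_snd, cX.lift_snd]
    exact hsq
  haveI : HenselianLocalRing QX.R := QX.sh.henselian
  haveI : IsSepClosed (ResidueField QX.R) := QX.sh.isSepClosure.1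
  have hpt := EtBCQ.geomPt_apply x' QX.R
  have h0 : IsIso ((EtCoh.stalk (Hens2.geomPt X' x' QX.R)).map ((EtCoh.pullPushAdj h).unit.app G)) :=
    (EtCons.isIso_stalk_iff _ _).2 ⟨(EtPBC.isZero_stalk_iff_zeroAt hpt _).2 hK,
      (EtPBC.isZero_stalk_iff_zeroAt hpt _).2 hC⟩
  refine bijective_Hpull_of_HpullVia_over m (Hens2.specOf X' x' QX.R) p QX.spec
    (by rw [hv]; exact cX.lift_fst _ _ _) (a ≫ h) HX.w.symm F q
    (bijective_HpullVia_of_stalks h G x' QX.R a m HX h0
      (fun k => AddCommGrpCat.subsingleton_of_isZero ((EtPBC.isZero_stalk_iff_zeroAt hpt _).2 (hR k))) q)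

end Main

end Groth.Agent.NearCyc
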