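import Groth.Agent.NearCyc.Basic
import Groth.Agent.SHClosed.Dvr
import Groth.Agent.EtPBC.CdMain
import Groth.Agent.EtPBC.ShDim
import Groth.Agent.EtPBC.CdDimLowerDvr
import Groth.Agent.Hensel.HenselizationProps
import Mathlib

/-! Replacing a point of the special fibre by one over a larger discrete valuation ring. -/

set_option autoImplicit false
set_option backward.isDefEq.respectTransparency false
set_option backward.isDefEq.respectTransparency.types false
set_option linter.style.haveILetI false
set_option linter.overlappingInstances false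
set_option maxHeartbeats 2000000
set_option synthInstance.maxHeartbeats 400000

universe u

open CategoryTheory CategoryTheory.Limits AlgebraicGeometry IsLocalRing
open scoped TensorProduct

noncomputable section

namespace Groth.Agent.NearCyc

/-- dimension drops by the transcendence degree of the parameters -/
theorem dim_le_sub (K K' : Type u) [Field K] [Field K'] [Algebra K K'] {r n : ℕ}
    (hr : (r : Cardinal) ≤ Algebra.trdeg K K') (BK : Type u) [CommRing BK] [Algebra K BK] [Algebra.FiniteType K BK]
    (hn : topologicalKrullDim (Spec (CommRingCat.of BK)) ≤ n) (C : Type u) [CommRing C] [Algebra K C] [Algebra K' C]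
    [IsScalarTower K K' C] [Algebra.FiniteType K' C] (ν : BK →ₐ[K] C)
    (halg : ∀ (Q : Ideal C) [Q.IsPrime] (c : C ⧸ Q),
      IsAlgebraic ((Ideal.Quotient.mkₐ K Q).comp ν).range c) :
    topologicalKrullDim (Spec (CommRingCat.of C)) ≤ ((n - r : ℕ) : WithBot ℕ∞) := by
  haveI : LocallyOfFiniteType (Spec.map (CommRingCat.ofHom (algebraMap K BK))) :=
    (HasRingHomProperty.Spec_iff (P := @LocallyOfFiniteType)).2 (RingHom.finiteType_algebraMap.2 ‹_›)
  haveI : LocallyOfFiniteType (Spec.map (CommRingCat.ofHom (algebraMap K' C))) :=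
    (HasRingHomProperty.Spec_iff (P := @LocallyOfFiniteType)).2 (RingHom.finiteType_algebraMap.2 ‹_›)
  refine EtPBC.dim_le_of_resDim (Spec.map (CommRingCat.ofHom (algebraMap K' C))) fun z => ?_
  obtain ⟨d, hd, -⟩ := EtPBC.exists_trdg_eq (Spec.map (CommRingCat.ofHom (algebraMap K' C))) z
  show EtPBC.trdg _ ≤ _
  rw [hd]
  refine Nat.cast_le.2 ?_
  rw [EtPBC.trdg_kStr_spec] at hd
  let Q := z.asIdeal
  let μ : BK →ₐ[K] C ⧸ Q := (Ideal.Quotient.mkₐ K Q).comp ν
  let E : Subalgebra K (C ⧸ Q) := μ.range
  haveI : Nontrivial E := inferInstance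
  haveI : Algebra.IsAlgebraic E (C ⧸ Q) := ⟨fun c => halg Q c⟩
  haveI : FaithfulSMul K E := (faithfulSMul_iff_algebraMap_injective _ _).2 (algebraMap K E).injective
  haveI : FaithfulSMul E (C ⧸ Q) := (faithfulSMul_iff_algebraMap_injective _ _).2 Subtype.val_injective
  haveI : FaithfulSMul K K' := (faithfulSMul_iff_algebraMap_injective _ _).2 (algebraMap K K').injective
  haveI : FaithfulSMul K' (C ⧸ Q) := (faithfulSMul_iff_algebraMap_injective _ _).2 (algebraMap K' (C ⧸ Q)).injective
  have h1 := trdeg_add_eq K E (A := C ⧸ Q)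
  rw [trdeg_eq_zero (R := E) (A := C ⧸ Q), add_zero] at h1
  have h2 := trdeg_add_eq K K' (A := C ⧸ Q)
  rw [hd, ← h1] at h2
  have hker : (RingHom.ker μ.toRingHom).IsPrime := RingHom.ker_isPrime _
  let z₀ : Spec (CommRingCat.of BK) := ⟨RingHom.ker μ.toRingHom, hker⟩
  have h3 : Algebra.trdeg K E ≤ n := by
    have h4 := EtPBC.resDim_of_dim_le (Spec.map (CommRingCat.ofHom (algebraMap K BK))) hn z₀
    rw [EtPBC.ResDim, EtPBC.trdg_kStr_spec] at h4
    exact ((Ideal.quotientKerAlgEquivOfSurjective (f := μ.rangeRestrict) μ.rangeRestrict_surjective).trdeg_eq.symm.trans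
      (Ideal.quotientEquivAlgOfEq K (show RingHom.ker μ.rangeRestrict = z₀.asIdeal from
        AlgHom.ker_rangeRestrict μ)).trdeg_eq).trans_le h4
  rw [← h2] at h3
  have h5 : ((r + d : ℕ) : Cardinal.{u}) ≤ n := by
    rw [Nat.cast_add]
    exact (add_le_add hr le_rfl).trans h3
  have := Nat.cast_le.1 h5
  omega

/-- generated algebras: elements are algebraic over a subdomain as soon as the generators are -/
theorem isAlgebraic_of_generators {K D : Type u} [CommRing K] [CommRing D] [IsDomain D] [Algebra K D]
    (E : Subalgebra K D) {B R' K' : Type u} [CommRing B] [CommRing R'] [CommRing K'] (β : B → D) (γ : R' → D)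
    (φ : K' → D) (hβ : ∀ b, β b ∈ E) (hγ : ∀ c, IsAlgebraic E (γ c)) (hφ : ∀ k, IsAlgebraic E (φ k)) {k : K'}
    {b : B} {c : R'} : IsAlgebraic E (φ k * (β b * γ c)) :=
  (hφ k).mul ((isAlgebraic_algebraMap (R := E) (A := D) ⟨β b, hβ b⟩).mul (hγ c))

variable {R : Type u} [CommRing R] [IsDomain R] [IsDiscreteValuationRing R] [HenselianLocalRing R]
  [IsSepClosed (ResidueField R)]

/-- **the larger discrete valuation ring and the scheme over it** -/
theorem exists_param (B : Type u) [CommRing B] [Algebra R B] [Algebra.FiniteType R B]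
    (y : Spec (CommRingCat.of B)) (hy : maximalIdeal R ≤ y.asIdeal.comap (algebraMap R B))
    (A : Type u) [CommRing A] [IsLocalRing A]
    [Algebra ((Spec (CommRingCat.of B)).presheaf.stalk y) A]
    [IsLocalHom (algebraMap ((Spec (CommRingCat.of B)).presheaf.stalk y) A)]
    [hA : _root_.Hensel.IsStrictHenselization ((Spec (CommRingCat.of B)).presheaf.stalk y) A]
    {r : ℕ} (b : Fin r → B)
    (hind : Function.Injective (MvPolynomial.eval₂Hom (Ideal.Quotient.lift (maximalIdeal R)
        ((Ideal.Quotient.mk y.asIdeal).comp (algebraMap R B)) fun a ha => Ideal.Quotient.eq_zero_iff_mem.2 (hy ha))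
      fun i => Ideal.Quotient.mk y.asIdeal (b i))) :
    ∃ (R' : Type u) (_ : CommRing R') (_ : IsDomain R') (_ : IsDiscreteValuationRing R') (_ : HenselianLocalRing R')
      (_ : IsSepClosed (ResidueField R')) (_ : Algebra R R')
      (C : Type u) (_ : CommRing C) (j : B →+* C) (inr : R' →+* C) (_ : inr.FiniteType)
      (x' : Spec (CommRingCat.of C)) (_ : Algebra ((Spec (CommRingCat.of C)).presheaf.stalk x') A)
      (_ : IsLocalHom (algebraMap ((Spec (CommRingCat.of C)).presheaf.stalk x') A))
      (_ : _root_.Hensel.IsStrictHenselization ((Spec (CommRingCat.of C)).presheaf.stalk x') A),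
      (∀ π : R, Irreducible π → Irreducible (algebraMap R R' π)) ∧
      j.comp (algebraMap R B) = inr.comp (algebraMap R R') ∧
      Hens2.specOf (Spec (CommRingCat.of C)) x' A ≫ Spec.map (CommRingCat.ofHom j) =
        Hens2.specOf (Spec (CommRingCat.of B)) y A ∧
      (∀ (Ω : Type u) [Field Ω] [Algebra R Ω], ConnectedSpace (PrimeSpectrum (R' ⊗[R] Ω))) ∧
      (∀ (K : Type u) [Field K] [Algebra R K] [IsFractionRing R K] (K' : Type u) [Field K'] [Algebra R' K']
        [IsFractionRing R' K'] (n : ℕ),
        topologicalKrullDim ↥(pullback (Spec.map (CommRingCat.ofHom (algebraMap R B)))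
          (Spec.map (CommRingCat.ofHom (algebraMap R K)))) ≤ n →
        topologicalKrullDim ↥(pullback (Spec.map (CommRingCat.ofHom inr))
          (Spec.map (CommRingCat.ofHom (algebraMap R' K')))) ≤ ((n - r : ℕ) : WithBot ℕ∞)) := by
  haveI : HenselianLocalRing A := hA.henselian
  haveI : IsSepClosed (ResidueField A) := hA.isSepClosure.1
  let O : Type u := (Spec (CommRingCat.of B)).presheaf.stalk y
  letI : Algebra B O := (StructureSheaf.toStalk B y).hom.toAlgebra
  haveI : IsLocalization.AtPrime O y.asIdeal := SHClosed.isLocalization_stalk B y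
  letI : Algebra B A := ((algebraMap O A).comp (algebraMap B O)).toAlgebra
  haveI : IsScalarTower B O A := IsScalarTower.of_algebraMap_eq fun _ => rfl
  let κ := ResidueField R
  letI : Algebra κ (B ⧸ y.asIdeal) := (Ideal.Quotient.lift (maximalIdeal R)
    ((Ideal.Quotient.mk y.asIdeal).comp (algebraMap R B)) fun a ha => Ideal.Quotient.eq_zero_iff_mem.2 (hy ha)).toAlgebra
  haveI : IsScalarTower R κ (B ⧸ y.asIdeal) := IsScalarTower.of_algebraMap_eq fun _ => rfl
  let b₀ := fun i => Ideal.Quotient.mk y.asIdeal (b i)
  have hbi : Function.Injective (MvPolynomial.aeval (R := κ) b₀) := hind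
  let P := MvPolynomial (Fin r) R
  letI : Algebra P B := (MvPolynomial.aeval b).toRingHom.toAlgebra
  haveI : IsScalarTower R P B := IsScalarTower.of_algebraMap_eq fun c => ((MvPolynomial.aeval b).commutes c).symm
  haveI : Algebra.FiniteType P B := Algebra.FiniteType.of_restrictScalars_finiteType R P B
  let red : P →+* MvPolynomial (Fin r) κ := MvPolynomial.map (residue R)
  have hred : ∀ p : P, Ideal.Quotient.mk y.asIdeal (algebraMap P B p) = MvPolynomial.aeval b₀ (red p) := by
    intro p
    have h : ((Ideal.Quotient.mk y.asIdeal).comp (algebraMap P B)) =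
        (MvPolynomial.aeval (R := κ) b₀).toRingHom.comp red := by
      refine MvPolynomial.ringHom_ext (fun c => ?_) fun i => ?_
      · show Ideal.Quotient.mk y.asIdeal (MvPolynomial.aeval b (MvPolynomial.C c)) = MvPolynomial.aeval b₀ _
        rw [MvPolynomial.aeval_C, MvPolynomial.map_C, MvPolynomial.aeval_C]
        rfl
      · show Ideal.Quotient.mk y.asIdeal (MvPolynomial.aeval b (MvPolynomial.X i)) = MvPolynomial.aeval b₀ _
        rw [MvPolynomial.aeval_X, MvPolynomial.map_X, MvPolynomial.aeval_X]
    exact RingHom.congr_fun h p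
  let p₀ : Ideal P := RingHom.ker red
  haveI : p₀.IsPrime := RingHom.ker_isPrime red
  have hp₀ : ∀ p : P, algebraMap P B p ∈ y.asIdeal ↔ p ∈ p₀ := fun p => by
    rw [← Ideal.Quotient.eq_zero_iff_mem, hred, map_eq_zero_iff _ hbi]
    rfl
  let V := Localization.AtPrime p₀
  haveI : IsNoetherianRing V := IsLocalization.isNoetherianRing p₀.primeCompl _ inferInstance
  obtain ⟨ϖ, hϖ⟩ := IsDiscreteValuationRing.exists_irreducible R
  have hmax : ∀ π : R, Irreducible π → maximalIdeal V = Ideal.span {algebraMap P V (MvPolynomial.C π)} := by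
    intro π hπ
    rw [← Localization.AtPrime.map_eq_maximalIdeal]
    show Ideal.map _ (RingHom.ker (MvPolynomial.map (residue R))) = _
    rw [MvPolynomial.ker_map, ker_residue, hπ.maximalIdeal_eq, Ideal.map_span, Set.image_singleton, Ideal.map_span,
      Set.image_singleton]
  have hne : ¬ IsField V := fun h => hϖ.ne_zero (MvPolynomial.C_injective (Fin r) R
    (IsLocalization.injective V p₀.primeCompl_le_nonZeroDivisors
      (a₁ := MvPolynomial.C ϖ) (a₂ := MvPolynomial.C 0) (by
        rw [map_zero (MvPolynomial.C (σ := Fin r) (R := R)), map_zero]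
        have h1 := hmax ϖ hϖ
        rw [IsLocalRing.isField_iff_maximalIdeal_eq.1 h] at h1
        exact Ideal.span_singleton_eq_bot.1 h1.symm)))
  haveI : IsDiscreteValuationRing V := by
    have h40 := (IsDiscreteValuationRing.TFAE V hne).out 4 0
    exact h40.1 ⟨⟨_, hmax ϖ hϖ⟩⟩
  letI : Algebra P A := ((algebraMap B A).comp (algebraMap P B)).toAlgebra
  haveI : IsScalarTower P B A := IsScalarTower.of_algebraMap_eq fun _ => rfl
  have hu : ∀ p : p₀.primeCompl, IsUnit (algebraMap P A p) := fun p =>
    (IsLocalization.map_units O (⟨algebraMap P B p, fun h => p.2 ((hp₀ _).1 h)⟩ : y.asIdeal.primeCompl)).map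
      (algebraMap O A)
  let ν : V →+* A := IsLocalization.lift (S := V) hu
  haveI hν : IsLocalHom ν := ⟨fun a ha => by
    obtain ⟨c, s, rfl⟩ := IsLocalization.exists_mk'_eq p₀.primeCompl a
    refine (IsLocalization.AtPrime.isUnit_mk'_iff V p₀ c s).2 fun hc => ?_
    have h1 : IsUnit (ν (algebraMap P V c)) := by
      rw [← IsLocalization.mk'_spec V c s, map_mul]
      exact ha.mul ((IsLocalization.map_units V s).map ν)
    rw [IsLocalization.lift_eq] at h1
    exact (IsLocalization.AtPrime.isUnit_to_map_iff O y.asIdeal _).1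
      (isUnit_of_map_unit (algebraMap O A) _ h1) ((hp₀ c).2 hc)⟩
  obtain ⟨R', _, _, _, _, hH⟩ := EtBCQ.exists_sh V
  haveI : HenselianLocalRing R' := hH.henselian
  haveI : IsSepClosed (ResidueField R') := hH.isSepClosure.1
  obtain ⟨-, hreg, hdim⟩ := (Hensel.dvr_iff V).1 ⟨inferInstance, inferInstance⟩
  haveI : IsNoetherianRing R' := (Hensel.strictHenselization_isNoetherianRing_iff V R').1 inferInstance
  haveI : IsRegularLocalRing R' := (Hensel.strictHenselization_isRegularLocalRing_iff V R').2 hreg
  haveI : IsDomain R' := RegLoc.isDomain R'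
  obtain ⟨_, hdvr⟩ := (Hensel.dvr_iff R').2
    ⟨inferInstance, inferInstance, (Hensel.strictHenselization_ringKrullDim V R').trans hdim⟩
  haveI : IsDiscreteValuationRing R' := hdvr
  haveI : Algebra.IsSeparable (ResidueField V) (ResidueField R') := hH.isSepClosure.2
  letI : Algebra V A := ν.toAlgebra
  haveI : IsLocalHom (algebraMap V A) := hν
  let τ : ResidueField R' →ₐ[ResidueField V] ResidueField A := IsSepClosed.lift
  obtain ⟨g, ⟨hg, hgτ⟩, -⟩ := hH.universal A (algebraMap V A) τ.toRingHom (RingHom.ext fun x => τ.commutes x)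
  letI : Algebra P R' := ((algebraMap V R').comp (algebraMap P V)).toAlgebra
  haveI : IsScalarTower P V R' := IsScalarTower.of_algebraMap_eq fun _ => rfl
  letI : Algebra R R' := ((algebraMap P R').comp (algebraMap R P)).toAlgebra
  haveI : IsScalarTower R P R' := IsScalarTower.of_algebraMap_eq fun _ => rfl
  haveI : Algebra.WeaklyEtale P V := SHClosed.weaklyEtale_of_isLocalization p₀.primeCompl V
  haveI : Algebra.WeaklyEtale V R' := WeakEt.weaklyEtale_strictHenselization V R'
  haveI : Algebra.WeaklyEtale P R' := Algebra.WeaklyEtale.trans P V R'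
  have hg' : ∀ p : P, g (algebraMap P R' p) = algebraMap P A p := fun p => by
    show g (algebraMap V R' (algebraMap P V p)) = _
    rw [← RingHom.comp_apply g (algebraMap V R'), hg]
    exact IsLocalization.lift_eq hu p
  let g' : R' →ₐ[P] A := { g with commutes' := hg' }
  let C := B ⊗[P] R'
  let θ : C →ₐ[B] A := Algebra.TensorProduct.lift (Algebra.ofId B A) g' fun _ _ => Commute.all _ _
  let x : Spec (CommRingCat.of C) := ⟨(maximalIdeal A).comap θ.toRingHom, Ideal.IsPrime.comap _⟩
  let inr : R' →+* C := (Algebra.TensorProduct.includeRight (R := P) (A := B) (B := R')).toRingHom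
  have hft : inr.FiniteType := by
    have h1 : (algebraMap R' (R' ⊗[P] B)).FiniteType :=
      RingHom.finiteType_algebraMap.2 (inferInstance : Algebra.FiniteType R' (R' ⊗[P] B))
    have h2 := (RingHom.FiniteType.of_surjective (Algebra.TensorProduct.comm P R' B).toRingHom
      (Algebra.TensorProduct.comm P R' B).surjective).comp h1
    refine (show inr = _ from RingHom.ext fun c => ?_) ▸ h2
    exact (Algebra.TensorProduct.comm_tmul P c (1 : B)).symm
  let O' : Type u := (Spec (CommRingCat.of C)).presheaf.stalk x
  letI : Algebra C O' := (StructureSheaf.toStalk C x).hom.toAlgebra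
  haveI : IsLocalization.AtPrime O' x.asIdeal := SHClosed.isLocalization_stalk C x
  have hx : ∀ c : x.asIdeal.primeCompl, IsUnit (θ.toRingHom c) := fun c => notMem_maximalIdeal.1 c.2
  let χ : O' →+* A := IsLocalization.lift (S := O') hx
  letI : Algebra O' A := χ.toAlgebra
  haveI hloc : IsLocalHom (algebraMap O' A) := ⟨fun a ha => by
    obtain ⟨c, s, rfl⟩ := IsLocalization.exists_mk'_eq x.asIdeal.primeCompl a
    refine (IsLocalization.AtPrime.isUnit_mk'_iff O' x.asIdeal c s).2 fun hc => ?_
    have h1 : IsUnit (χ (algebraMap C O' c)) := by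
      rw [← IsLocalization.mk'_spec O' c s, map_mul]
      exact ha.mul ((IsLocalization.map_units O' s).map χ)
    rw [IsLocalization.lift_eq] at h1
    exact (mem_maximalIdeal _).1 hc h1⟩
  letI : Algebra B O' := ((algebraMap C O').comp (algebraMap B C)).toAlgebra
  haveI : IsScalarTower B C O' := IsScalarTower.of_algebraMap_eq fun _ => rfl
  have hyO : ∀ s : y.asIdeal.primeCompl, IsUnit (algebraMap B O' s) := fun s => by
    refine IsLocalization.map_units O' (⟨algebraMap B C s, fun h => ?_⟩ : x.asIdeal.primeCompl)
    have h1 : algebraMap B A (s : B) ∈ maximalIdeal A := θ.commutes (s : B) ▸ h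
    exact (mem_maximalIdeal _).1 h1 ((IsLocalization.map_units O s).map (algebraMap O A))
  letI : Algebra O O' := (IsLocalization.lift (S := O) hyO).toAlgebra
  haveI : IsScalarTower B O O' := IsScalarTower.of_algebraMap_eq fun c => (IsLocalization.lift_eq _ c).symm
  haveI : IsScalarTower O O' A := IsScalarTower.of_algebraMap_eq' (IsLocalization.ringHom_ext y.asIdeal.primeCompl
    (RingHom.ext fun c => by
      show algebraMap O A (algebraMap B O c) = χ (IsLocalization.lift (S := O) hyO (algebraMap B O c))
      rw [IsLocalization.lift_eq]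
      show _ = χ (algebraMap C O' (algebraMap B C c))
      rw [IsLocalization.lift_eq]
      exact (θ.commutes c).symm))
  haveI : Algebra.WeaklyEtale B O := SHClosed.weaklyEtale_of_isLocalization y.asIdeal.primeCompl O
  haveI : Algebra.WeaklyEtale C O' := SHClosed.weaklyEtale_of_isLocalization x.asIdeal.primeCompl O'
  haveI : Algebra.WeaklyEtale B O' := Algebra.WeaklyEtale.trans B C O'
  haveI : Algebra.WeaklyEtale O O' := WeakEt.weaklyEtale_of_comp B O O'
  haveI : Algebra.WeaklyEtale O A := WeakEt.weaklyEtale_strictHenselization O A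
  haveI : Algebra.WeaklyEtale O' A := WeakEt.weaklyEtale_of_comp O O' A
  obtain ⟨hl', hS'⟩ := Hensel.exists_strictHenselization O'
  refine ⟨R', inferInstance, inferInstance, hdvr, inferInstance, inferInstance, inferInstance, C, inferInstance,
    algebraMap B C, inr, hft, x, inferInstance, hloc,
    WeakEt.isStrictHenselization_aux O' (Hensel.Env O' (SeparableClosure (ResidueField O'))) A (hS := hS'),
    fun π hπ => ?_, ?_, ?_, fun Ω _ _ => ?_, fun K _ _ _ K' _ _ _ n hn => ?_⟩
  · -- a uniformizer stays one
    have h1 : maximalIdeal R' = Ideal.span {algebraMap R R' π} := by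
      rw [← Hensel.strictHenselization_map_maximalIdeal (R := V) (S := R'), hmax π hπ, Ideal.map_span,
        Set.image_singleton]
      rfl
    refine IsDiscreteValuationRing.irreducible_of_span_eq_maximalIdeal _ ?_ h1
    intro h0
    exact IsDiscreteValuationRing.not_a_field R' (by rw [h1, h0, Ideal.span_singleton_zero])
  · refine RingHom.ext fun c => ?_
    show algebraMap B C (algebraMap R B c) = inr (algebraMap P R' (algebraMap R P c))
    rw [IsScalarTower.algebraMap_apply R P B]
    exact ((IsScalarTower.algebraMap_apply P B C _).symm.trans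
      ((Algebra.TensorProduct.includeRight (R := P) (A := B) (B := R')).commutes _).symm)
  · show (Spec.map (CommRingCat.ofHom χ) ≫ (Spec (CommRingCat.of C)).fromSpecStalk x) ≫ _ =
      Spec.map (CommRingCat.ofHom (algebraMap O A)) ≫ (Spec (CommRingCat.of B)).fromSpecStalk y
    rw [Spec.fromSpecStalk_eq', Spec.fromSpecStalk_eq', ← Spec.map_comp, ← Spec.map_comp, ← Spec.map_comp]
    refine congrArg Spec.map (CommRingCat.hom_ext (RingHom.ext fun c => ?_))
    show χ (algebraMap C O' (algebraMap B C c)) = algebraMap O A (algebraMap B O c)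
    rw [IsLocalization.lift_eq]
    exact θ.commutes c
  · -- connectedness
    let pp : Spec (CommRingCat.of P) := ⟨p₀, inferInstance⟩
    let S₀ : Type u := (Spec (CommRingCat.of P)).presheaf.stalk pp
    letI : Algebra P S₀ := (StructureSheaf.toStalk P pp).hom.toAlgebra
    haveI : IsLocalization.AtPrime S₀ p₀ := SHClosed.isLocalization_stalk P pp
    let e : S₀ ≃ₐ[P] V := IsLocalization.algEquiv p₀.primeCompl S₀ V
    letI : Algebra S₀ R' := ((algebraMap V R').comp e.toRingEquiv.toRingHom).toAlgebra
    haveI : IsLocalHom (e.toRingEquiv.toRingHom) := ⟨fun a ha => (isUnit_map_iff e.toRingEquiv a).1 ha⟩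
    haveI : IsLocalHom (algebraMap S₀ R') := RingHom.isLocalHom_comp _ _
    haveI := isStrictHenselization_of_equiv (O := V) (R := R') e.toRingEquiv rfl
    let QX : EtBCQ.SH (Spec (CommRingCat.of P)) pp := { R := R' }
    let QY : EtBCQ.SH (Spec (CommRingCat.of R)) (closedPoint R) := EtOpenBC.selfSH R (closedPoint R) rfl
    haveI : Smooth (Spec.map (CommRingCat.ofHom (algebraMap R P))) :=
      (HasRingHomProperty.Spec_iff (P := @Smooth)).2 (RingHom.smooth_algebraMap.2 ({ formallySmooth := inferInstance, finitePresentation := inferInstance } : Algebra.Smooth R P))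
    letI : Algebra QY.R QX.R := (inferInstance : Algebra R R')
    haveI : IsLocalHom (algebraMap QY.R QX.R) := ⟨fun a ha => by
      by_contra hau
      have h2 : MvPolynomial.C a ∈ p₀ := by
        show MvPolynomial.map (residue R) (MvPolynomial.C a) = 0
        rw [MvPolynomial.map_C, (residue_eq_zero_iff a).2 hau, map_zero]
      exact (IsLocalization.AtPrime.isUnit_to_map_iff V p₀ _).1 (isUnit_of_map_unit (algebraMap V R') _ ha) h2⟩
    have hQX : QX.spec = Spec.map (CommRingCat.ofHom (algebraMap P R')) := by
      show Spec.map (CommRingCat.ofHom (algebraMap S₀ R')) ≫ (Spec (CommRingCat.of P)).fromSpecStalk pp = _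
      rw [Spec.fromSpecStalk_eq', ← Spec.map_comp]
      refine congrArg Spec.map (CommRingCat.hom_ext (RingHom.ext fun c => ?_))
      show algebraMap V R' (e (algebraMap P S₀ c)) = _
      rw [e.commutes]
      rfl
    have hsp : Spec.map (CommRingCat.ofHom (algebraMap QY.R QX.R)) ≫ QY.spec =
        QX.spec ≫ Spec.map (CommRingCat.ofHom (algebraMap R P)) := by
      rw [EtOpenBC.selfSH_spec, hQX, ← Spec.map_comp]
      exact Category.comp_id _
    haveI := LAcyc.connected_fibres_smooth (Spec.map (CommRingCat.ofHom (algebraMap R P))) QY QX hsp Ω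
      (Spec.map (CommRingCat.ofHom (algebraMap R Ω)))
    exact (pullbackSpecIso R R' Ω).hom.homeomorph.connectedSpace_iff.1 ‹_›
  · -- dimensions
    letI : Algebra R K' := ((algebraMap R' K').comp (algebraMap R R')).toAlgebra
    haveI : IsScalarTower R R' K' := IsScalarTower.of_algebraMap_eq fun _ => rfl
    letI : Algebra R' C := inr.toAlgebra
    haveI : Algebra.FiniteType R' C := hft
    have hPV : Function.Injective (algebraMap P V) := IsLocalization.injective V p₀.primeCompl_le_nonZeroDivisors
    have hVR : Function.Injective (algebraMap V R') := by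
      haveI := Hensel.strictHenselization_faithfullyFlat V R'
      exact FaithfulSMul.algebraMap_injective V R'
    have hPR : Function.Injective (algebraMap P R') := hVR.comp hPV
    let ψ : P →+* K' := (algebraMap R' K').comp (algebraMap P R')
    have hψ : Function.Injective ψ := (IsFractionRing.injective R' K').comp hPR
    letI : Algebra P K' := ψ.toAlgebra
    haveI : IsScalarTower R P K' := IsScalarTower.of_algebraMap_eq fun _ => rfl
    haveI : IsScalarTower P R' K' := IsScalarTower.of_algebraMap_eq fun _ => rfl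
    have hRK' : Function.Injective (algebraMap R K') := hψ.comp (MvPolynomial.C_injective _ _)
    let ι : K →+* K' := IsFractionRing.lift (g := algebraMap R K') hRK'
    letI : Algebra K K' := ι.toAlgebra
    haveI : IsScalarTower R K K' := IsScalarTower.of_algebraMap_eq fun a => (IsFractionRing.lift_algebraMap _ a).symm
    -- the parameters are independent
    have hind' : AlgebraicIndependent R fun i => ψ (MvPolynomial.X i) := by
      rw [algebraicIndependent_iff_injective_aeval, show MvPolynomial.aeval (fun i => ψ (MvPolynomial.X i)) =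
        IsScalarTower.toAlgHom R P K' from MvPolynomial.algHom_ext fun i => by
          rw [MvPolynomial.aeval_X]; rfl]
      exact hψ
    haveI : Algebra.IsAlgebraic R K := IsLocalization.isAlgebraic K (nonZeroDivisors R)
    have hr : (r : Cardinal) ≤ Algebra.trdeg K K' := by
      simpa using (AlgebraicIndependent.extendScalars (S := K) hind').lift_cardinalMk_le_trdeg
    -- algebraicity of the parameters
    haveI : Algebra.IsAlgebraic P K' := by
      haveI : FaithfulSMul P V := (faithfulSMul_iff_algebraMap_injective _ _).2 hPV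
      haveI : FaithfulSMul V R' := (faithfulSMul_iff_algebraMap_injective _ _).2 hVR
      haveI : FaithfulSMul P R' := (faithfulSMul_iff_algebraMap_injective _ _).2 hPR
      haveI : FaithfulSMul R' K' := (faithfulSMul_iff_algebraMap_injective _ _).2 (IsFractionRing.injective R' K')
      haveI : Algebra.IsAlgebraic P V := IsLocalization.isAlgebraic V p₀.primeCompl
      haveI := EtPBC.isAlgebraic_sh_quotient (A := V) (R := R') (P := (⊥ : Ideal R'))
      haveI : Algebra.IsAlgebraic V R' := ⟨EtPBC.isAlgebraic_of_quotient_bot V R' hVR⟩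
      haveI : Algebra.IsAlgebraic P R' := Algebra.IsAlgebraic.trans P V R'
      haveI : Algebra.IsAlgebraic R' K' := IsLocalization.isAlgebraic K' (nonZeroDivisors R')
      exact Algebra.IsAlgebraic.trans P R' K'
    let BK := K ⊗[R] B
    let CK := K' ⊗[R'] C
    have hBK : topologicalKrullDim (Spec (CommRingCat.of BK)) ≤ n :=
      (IsHomeomorph.topologicalKrullDim_eq _ (pullbackSymmetry (Spec.map (CommRingCat.ofHom (algebraMap R B)))
        (Spec.map (CommRingCat.ofHom (algebraMap R K))) ≪≫ pullbackSpecIso R K B).hom.homeomorph.isHomeomorph).symm.trans_le hn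
    let inC : C →+* CK := (Algebra.TensorProduct.includeRight (R := R') (A := K') (B := C)).toRingHom
    have hinC : ∀ c : R', inC (inr c) = algebraMap K' CK (algebraMap R' K' c) := fun c =>
      ((Algebra.TensorProduct.includeRight (R := R') (A := K') (B := C)).commutes c).trans
        (IsScalarTower.algebraMap_apply R' K' CK c)
    let βB : B →ₐ[R] CK :=
      { inC.comp (algebraMap B C) with
        commutes' := fun a => by
          show inC (algebraMap B C (algebraMap R B a)) = _
          rw [IsScalarTower.algebraMap_apply R P B, ← IsScalarTower.algebraMap_apply P B C,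
            ← (Algebra.TensorProduct.includeRight (R := P) (A := B) (B := R')).commutes]
          exact (hinC _).trans (IsScalarTower.algebraMap_apply R K' CK a).symm }
    let ν : BK →ₐ[K] CK := Algebra.TensorProduct.lift (Algebra.ofId K CK) βB fun _ _ => .all _ _
    have hν : ∀ b : B, ν ((1 : K) ⊗ₜ[R] b) = inC (algebraMap B C b) := fun b => by
      show Algebra.TensorProduct.lift (Algebra.ofId K CK) βB _ ((1 : K) ⊗ₜ[R] b) = _
      rw [Algebra.TensorProduct.lift_tmul, map_one, one_mul]
      rfl
    refine (IsHomeomorph.topologicalKrullDim_eq _ (pullbackSymmetry (Spec.map (CommRingCat.ofHom inr))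
      (Spec.map (CommRingCat.ofHom (algebraMap R' K'))) ≪≫ pullbackSpecIso R' K' C).hom.homeomorph.isHomeomorph).trans_le ?_
    refine dim_le_sub K K' hr BK hBK CK ν fun Q _ z => ?_
    let μ : BK →ₐ[K] CK ⧸ Q := (Ideal.Quotient.mkₐ K Q).comp ν
    let φ : K' →+* CK ⧸ Q := (Ideal.Quotient.mk Q).comp (algebraMap K' CK)
    let toE : B →+* μ.range := μ.rangeRestrict.toRingHom.comp (Algebra.TensorProduct.includeRight (R := R) (A := K) (B := B)).toRingHom
    have hβ : ∀ b : B, Ideal.Quotient.mk Q (inC (algebraMap B C b)) ∈ μ.range := fun b =>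
      ⟨(1 : K) ⊗ₜ[R] b, congrArg (Ideal.Quotient.mk Q) (hν b)⟩
    have hφ : ∀ k, IsAlgebraic μ.range (φ k) := fun k => by
      obtain ⟨q, hq0, hq⟩ := Algebra.IsAlgebraic.isAlgebraic (R := P) k
      let toP : P →+* μ.range := toE.comp (algebraMap P B)
      have hcomm : ∀ c, (toP c : CK ⧸ Q) = φ (algebraMap P K' c) := fun c => by
        show Ideal.Quotient.mk Q (ν ((1 : K) ⊗ₜ[R] algebraMap P B c)) = Ideal.Quotient.mk Q _
        refine congrArg (Ideal.Quotient.mk Q) ((hν _).trans ?_)
        rw [← IsScalarTower.algebraMap_apply P B C, ← (Algebra.TensorProduct.includeRight (R := P) (A := B) (B := R')).commutes]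
        exact hinC _
      refine ⟨q.map toP, fun h0 => hq0 (Polynomial.map_injective toP (fun a c h => ?_) (by rw [h0, Polynomial.map_zero])), ?_⟩
      · have h2 := congrArg (Subtype.val : μ.range → CK ⧸ Q) h
        rw [hcomm, hcomm] at h2
        exact hψ (φ.injective h2)
      · rw [Polynomial.aeval_def, Polynomial.eval₂_map,
          show (algebraMap μ.range (CK ⧸ Q)).comp toP = φ.comp (algebraMap P K') from RingHom.ext hcomm,
          ← Polynomial.hom_eval₂, ← Polynomial.aeval_def, hq, map_zero]
    obtain ⟨z, rfl⟩ := Ideal.Quotient.mk_surjective z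
    induction z using TensorProduct.induction_on with
    | zero => rw [map_zero]; exact isAlgebraic_zero
    | add a c ha hc => rw [map_add]; exact ha.add hc
    | tmul k w =>
      induction w using TensorProduct.induction_on with
      | zero => rw [TensorProduct.tmul_zero, map_zero]; exact isAlgebraic_zero
      | add a c ha hc => rw [TensorProduct.tmul_add, map_add]; exact ha.add hc
      | tmul b c =>
        rw [show k ⊗ₜ[R'] (b ⊗ₜ[P] c) = algebraMap K' CK k * (inC (algebraMap B C b) * inC (inr c)) by
          show k ⊗ₜ[R'] (b ⊗ₜ[P] c) = k ⊗ₜ[R'] (1 : C) * ((1 : K') ⊗ₜ[R'] (b ⊗ₜ[P] (1 : R')) * (1 : K') ⊗ₜ[R'] ((1 : B) ⊗ₜ[P] c))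
          simp only [Algebra.TensorProduct.tmul_mul_tmul, mul_one, one_mul], map_mul, map_mul]
        exact isAlgebraic_of_generators μ.range (fun b => Ideal.Quotient.mk Q (inC (algebraMap B C b)))
          (fun c => Ideal.Quotient.mk Q (inC (inr c))) φ hβ
          (fun c => by rw [hinC]; exact hφ _) hφ

end Groth.Agent.NearCyc
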