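import Groth.Agent.EtAcycX.LCVan
import Mathlib

/-! Pullback along abstract squares of constant sheaves with acyclic fibres. -/

set_option autoImplicit false
set_option backward.isDefEq.respectTransparency false
set_option backward.isDefEq.respectTransparency.types false
set_option linter.unusedSectionVars false
set_option linter.auxLemma false
set_option linter.overlappingInstances false
set_option linter.style.haveILetI false
set_option maxHeartbeats 1000000

universe u

open CategoryTheory CategoryTheory.Limits CategoryTheory.Abelian AlgebraicGeometry Opposite IsLocalRing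

noncomputable section

namespace Groth.Agent.EtAcycX

attribute [local instance 100000] EtCoh.H._proof_1 Groth.Agent.EtMV.hext
attribute [local instance 200000] Groth.Agent.EtMV.hextAb
attribute [local instance 300000] CategoryTheory.Preadditive.preadditiveHasZeroMorphisms
  CategoryTheory.Abelian.toPreadditive

variable {R : Type u} [CommRing R] [HenselianLocalRing R] [IsSepClosed (ResidueField R)]
  {Ω : Type u} [Field Ω] [IsSepClosed Ω] {W X : Scheme.{u}}

theorem bijective_HpullVia_lcVan (m : W ⟶ Spec (CommRingCat.of R)) (b : W ⟶ Spec (CommRingCat.of Ω))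
    [QuasiCompact b] [QuasiSeparated b] [PreservesFiniteLimits (EtCoh.pull m)]
    (a : Spec (CommRingCat.of R) ⟶ X) (a' : W ⟶ X) (w : m ≫ a = a') (F : EtCoh.Ab X)
    (hF : EtRest.IsLocallyConstant F) (L : Set ℕ) (q : ℕ) (hb : EtAcyc.GeomFibresAcyclicN L q b)
    (hs : ∀ s : (EtCoh.stalk (EtHens.pt R ≫ a)).obj F, ∃ n, EtAcyc.PrimesIn L n ∧ n • s = 0) :
    Function.Bijective (EtCore.HpullVia m a a' w F q) := by
  obtain ⟨M, ⟨i⟩⟩ := exists_iso_constB_pull R a F hF
  have hM : ∀ y : M, ∃ n, EtAcyc.PrimesIn L n ∧ n • y = 0 :=
    fun y => nsmul_eq_zero_of_stalk R a F i (EtAcyc.PrimesIn L) hs y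
  haveI := isIso_ψh m a a' w F
  exact (bijective_comp_iso (EtLimit.ψh m a a' w F) q).comp
    (bijective_Hpull_of_iso m i (bijective_Hpull_van m b hb M hM))

end Groth.Agent.EtAcycX
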