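import Groth.Agent.NearCyc.Stalks
import Groth.Agent.EtAcycX.LAFibre
import Groth.Agent.EtAcycX.LCVan
import Groth.Agent.EtCons.FlcNear
import Groth.Agent.NearCyc.VanVia
import Mathlib

/-! Vanishing cycles of locally constant sheaves at smooth points. -/

set_option autoImplicit false
set_option backward.isDefEq.respectTransparency false
set_option backward.isDefEq.respectTransparency.types false
set_option linter.style.haveILetI false
set_option linter.overlappingInstances false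
set_option linter.auxLemma false
set_option maxHeartbeats 1000000
set_option synthInstance.maxHeartbeats 400000

universe u

open CategoryTheory CategoryTheory.Limits AlgebraicGeometry IsLocalRing
open scoped TensorProduct

noncomputable section

namespace Groth.Agent.NearCyc

attribute [local instance 100000] EtCoh.H._proof_1 Groth.Agent.EtMV.hext
attribute [local instance 200000] Groth.Agent.EtMV.hextAb

variable {V : Type u} [CommRing V] [HenselianLocalRing V] [IsSepClosed (ResidueField V)]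
  {X : Scheme.{u}} (f : X ⟶ Spec (CommRingCat.of V)) {x : X}

/-- acyclicity of the fibres at a smooth point -/
theorem isAcyclicSchemeN_smooth_point (hx : f x = closedPoint V) (U : X.Opens) (hxU : x ∈ U) [Smooth (U.ι ≫ f)]
    (Q : EtBCQ.SH X x) [Algebra V Q.R] (hφ : Spec.map (CommRingCat.ofHom (algebraMap V Q.R)) = Q.spec ≫ f)
    (Ω : Type u) [Field Ω] [IsSepClosed Ω] [Algebra V Ω] (n : ℕ) :
    EtAcyc.IsAcyclicSchemeN {ℓ : ℕ | ℓ.Prime ∧ (ℓ : ResidueField V) ≠ 0} n
      (Spec (CommRingCat.of (Q.R ⊗[V] Ω))) := by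
  obtain ⟨Q', e, he⟩ := exists_SH_opens U ⟨x, hxU⟩ Q
  have hx' : (U.ι ≫ f).base ⟨x, hxU⟩ = closedPoint V := hx
  let σ := Spec.map (CommRingCat.ofHom e.toRingHom)
  haveI : IsIso σ := by
    haveI : IsIso (CommRingCat.ofHom e.toRingHom) := (RingEquiv.toCommRingCatIso e).isIso_hom
    infer_instance
  let gam := Spec.map (CommRingCat.ofHom (algebraMap V Ω))
  have hh : σ ≫ Q'.spec ≫ U.ι ≫ f = Q.spec ≫ f := by rw [← he]; simp only [σ, Category.assoc]
  let E : Spec (CommRingCat.of (Q.R ⊗[V] Ω)) ≅ pullback (Q'.spec ≫ U.ι ≫ f) gam :=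
    (pullbackSpecIso V Q.R Ω).symm ≪≫ pullback.congrHom (hφ.trans hh.symm) rfl ≪≫
      asIso (pullback.map (σ ≫ Q'.spec ≫ U.ι ≫ f) gam (Q'.spec ≫ U.ι ≫ f) gam σ (𝟙 _) (𝟙 _) (by simp) (by simp))
  have h1 : ∀ m : ℕ, (m : ResidueField V) ≠ 0 →
      ConnectedSpace ↥(Spec (CommRingCat.of (Q.R ⊗[V] Ω))) ∧
      ∀ i : ℕ, 0 < i → Subsingleton (EtCoh.H (Spec (CommRingCat.of (Q.R ⊗[V] Ω))) (EtCoh.const _ (ZMod m)) i) :=
    fun m hm => by
      obtain ⟨hc, hv⟩ := smooth_point (U.ι ≫ f) Ω hx' Q' hm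
      haveI := hc
      exact ⟨E.symm.hom.homeomorph.connectedSpace_iff.1 hc,
        fun i hi => (LAcyc.subsingleton_H_const_iff E.symm (ZMod m) i).1 (hv i hi)⟩
  have h0 := (h1 1 (by rw [Nat.cast_one]; exact one_ne_zero)).1
  exact ⟨h0.toNonempty, h0, fun ℓ hℓ hℓL q hq _ => (h1 ℓ hℓL.2).2 q hq⟩

theorem nsmul_stalk_eq_zero {F : EtCoh.Ab X} {N : ℕ} (hFN : EtPBC.Killed N F) {Ω : Type u} [Field Ω] [IsSepClosed Ω]
    (ξ : Spec (CommRingCat.of Ω) ⟶ X) (s : (EtCoh.stalk ξ).obj F) : N • s = 0 := by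
  haveI : (EtCoh.stalk ξ).Additive := Functor.additive_of_preserves_binary_products _
  have h2 := congrArg (fun t => (EtCoh.stalk ξ).map t) ((EtPBC.killed_iff N F).1 hFN)
  simp only [Functor.map_nsmul, CategoryTheory.Functor.map_id, Functor.map_zero] at h2
  have h3 := ConcreteCategory.congr_hom h2 s
  simpa using h3

variable (U : X.Opens) [Smooth (U.ι ≫ f)] (Ω : Type u) [Field Ω] [IsSepClosed Ω] [Algebra V Ω]

/-- **vanishing cycles of a locally constant sheaf vanish at smooth points** -/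
theorem zeroAt_smooth_point (hx : f x = closedPoint V) (hxU : x ∈ U) (F : EtCoh.Ab X)
    (hF : EtRest.IsLocallyConstant F) {N : ℕ} (hN : (N : ResidueField V) ≠ 0) (hFN : EtPBC.Killed N F) :
    EtPBC.ZeroAt (kernel ((EtCoh.pullPushAdj (pullback.fst f (Spec.map (CommRingCat.ofHom (algebraMap V Ω))))).unit.app F)) x ∧
    EtPBC.ZeroAt (cokernel ((EtCoh.pullPushAdj (pullback.fst f (Spec.map (CommRingCat.ofHom (algebraMap V Ω))))).unit.app F)) x ∧
    ∀ q : ℕ, EtPBC.ZeroAt ((EtCoh.Rpush (pullback.fst f (Spec.map (CommRingCat.ofHom (algebraMap V Ω)))) (q + 1)).obj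
      ((EtCoh.pull (pullback.fst f (Spec.map (CommRingCat.ofHom (algebraMap V Ω))))).obj F)) x := by
  let gam := Spec.map (CommRingCat.ofHom (algebraMap V Ω))
  let h := pullback.fst f gam
  let Q := EtBCQ.mkSH X x
  haveI : IsSepClosed (ResidueField Q.R) := Q.sh.isSepClosure.1
  haveI : HenselianLocalRing Q.R := Q.sh.henselian
  obtain ⟨φ, hφl, hφ⟩ := exists_structure_hom f hx Q
  letI : Algebra V Q.R := φ.toAlgebra
  let m : Spec (CommRingCat.of (Q.R ⊗[V] Ω)) ⟶ Spec (CommRingCat.of Q.R) :=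
    Spec.map (CommRingCat.ofHom (algebraMap Q.R (Q.R ⊗[V] Ω)))
  let b := EtAcycX.vcProj V Q.R Ω
  have sq : IsPullback m b (Q.spec ≫ f) gam := by
    rw [← hφ]
    exact isPullback_SpecMap_of_isPushout _ _ _ _ (CommRingCat.isPushout_tensorProduct V Q.R Ω)
  let a : Spec (CommRingCat.of (Q.R ⊗[V] Ω)) ⟶ pullback f gam :=
    pullback.lift (m ≫ Q.spec) b ((Category.assoc _ _ _).trans sq.w)
  have HX : IsPullback a m h Q.spec := by
    have h2 : IsPullback m (a ≫ pullback.snd f gam) (Q.spec ≫ f) gam := by rwa [pullback.lift_snd]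
    exact (IsPullback.of_bot h2 (pullback.lift_fst _ _ _).symm (IsPullback.of_hasPullback f gam)).flip
  haveI := EtPullExact.pull_preservesFiniteLimits h
  haveI := EtPullExact.pull_preservesFiniteLimits m
  have hm : ∀ (n q : ℕ), q ≤ n →
      Function.Bijective (EtCore.HpullVia m Q.spec (a ≫ h) HX.w.symm F q) := by
    intro n q _
    have hN0 : 0 < N := Nat.pos_of_ne_zero fun h0 => hN (by rw [h0, Nat.cast_zero])
    let L : Set ℕ := {ℓ : ℕ | ℓ.Prime ∧ (ℓ : ResidueField V) ≠ 0}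
    have hP : EtAcyc.PrimesIn L N := ⟨hN0, fun p hp ⟨r, hr⟩ => ⟨hp, fun h0 => hN (by
      rw [hr, Nat.cast_mul, h0, zero_mul])⟩⟩
    have hb : EtAcyc.GeomFibresAcyclicN L q b :=
      EtAcycX.geomFibres_vcProj V Q.R Ω fun Ω' _ _ _ => isAcyclicSchemeN_smooth_point f hx U hxU Q hφ Ω' q
    exact EtAcycX.bijective_HpullVia_lcVan m b Q.spec (a ≫ h) HX.w.symm F hF L q hb
      fun s => ⟨N, hP, nsmul_stalk_eq_zero hFN (EtHens.pt Q.R ≫ Q.spec) s⟩
  have hξ : (Hens2.geomPt X x Q.R) (default : ↥(Spec (CommRingCat.of (ResidueField Q.R)))) = x := by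
    refine (Eq.trans ?_ Q.spec_closed)
    show Q.spec ((Spec.map (CommRingCat.ofHom (residue Q.R))) default) = _
    exact congrArg Q.spec (by
      rw [Subsingleton.elim (default : ↥(Spec (CommRingCat.of (ResidueField Q.R)))) (closedPoint _)]
      exact EtBCQ.Spec_closedPoint' (residue Q.R))
  have key := fun n => EtAcycX.stalk_acyclic h F x Q.R a m HX (hm n)
  obtain ⟨h1, h2⟩ := (EtCons.isIso_stalk_iff _ (Hens2.geomPt X x Q.R)).1 (key 0).1
  refine ⟨(EtPBC.isZero_stalk_iff_zeroAt hξ _).1 h1, (EtPBC.isZero_stalk_iff_zeroAt hξ _).1 h2, fun q => ?_⟩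
  refine (EtPBC.isZero_stalk_iff_zeroAt hξ _).1 ?_
  haveI := (key (q + 1)).2 q (Nat.lt_succ_self q)
  exact AddCommGrpCat.isZero_of_subsingleton _

end Groth.Agent.NearCyc
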