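import Groth.Agent.NearCyc.Dim
import Groth.Agent.EtStrictLoc.Main
import Groth.Agent.EtPBC.Skyscraper
import Groth.Agent.EtPBC.Killed
import Groth.Prelude.Def_VanCyc
import Mathlib

/-! Stalks of nearby cycle sheaves. -/

set_option autoImplicit false
set_option backward.isDefEq.respectTransparency false
set_option backward.isDefEq.respectTransparency.types false
set_option linter.style.haveILetI false
set_option linter.overlappingInstances false
set_option linter.auxLemma false
set_option maxHeartbeats 1000000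

universe u

open CategoryTheory CategoryTheory.Limits AlgebraicGeometry

noncomputable section

namespace Groth.Agent.NearCyc

attribute [local instance 100000] EtCoh.H._proof_1 Groth.Agent.EtMV.hext
attribute [local instance 200000] Groth.Agent.EtMV.hextAb

variable {V K Ω : Type u} [CommRing V] [Field K] [Algebra V K] [Field Ω] [IsSepClosed Ω] [Algebra K Ω]
  [Algebra.IsIntegral K Ω] [Algebra V Ω] [IsScalarTower V K Ω] {X : Scheme.{u}} (f : X ⟶ Spec (CommRingCat.of V))
  [LocallyOfFiniteType f] [QuasiCompact f]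

/-- cohomological dimension of the geometric generic fibre of a strict localisation -/
theorem cohDimLE_fibre {n : ℕ}
    (hn : topologicalKrullDim ↥(pullback f (Spec.map (CommRingCat.ofHom (algebraMap V K)))) ≤ n)
    {x : X} (Q : EtBCQ.SH X x) {P : Scheme.{u}} (pT : P ⟶ Spec (CommRingCat.of Q.R))
    (pB : P ⟶ Spec (CommRingCat.of Ω))
    (H : IsPullback pT pB (Q.spec ≫ f) (Spec.map (CommRingCat.ofHom (algebraMap V Ω)))) :
    EtCoh.CohDimLE P n := by
  let R := Q.R
  haveI : HenselianLocalRing R := Q.sh.henselian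
  haveI : IsSepClosed (IsLocalRing.ResidueField R) := Q.sh.isSepClosure.1
  let gam := Spec.map (CommRingCat.ofHom (algebraMap V Ω))
  let I := EtStrictLoc.Idx X x R
  let E := EtStrictLoc.diag X x R
  let c := EtStrictLoc.cone X x R
  let α : E ⟶ (Functor.const I).obj (Spec (CommRingCat.of V)) :=
    { app := fun a => a.nhd.et.hom ≫ f
      naturality := fun a b h => by
        refine (Eq.trans ?_ (Category.comp_id _).symm)
        exact (Category.assoc _ _ _).symm.trans (congrArg (· ≫ f)
          (MorphismProperty.Over.w ((Scheme.AffineEtale.Spec X).map (EtStrictLoc.Idx.nhdMap h).1))) }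
  have hg : ∀ a, c.π.app a ≫ α.app a = Hens2.specOf X x R ≫ f := fun a => by
    show Spec.map a.nhd.ev ≫ a.nhd.et.hom ≫ f = _
    rw [a.nhd.spec_ev, ← Category.assoc, a.nhd.sec_w]
  let g := Hens2.specOf X x R ≫ f
  haveI : IsConnected I := IsCofiltered.isConnected _
  haveI : ∀ a, IsAffine (E.obj a) := fun a => inferInstanceAs (IsAffine (Spec _))
  haveI : ∀ {a b : I} (h : a ⟶ b), IsAffineHom ((LAcyc.fibSys α gam).map h) := fun h => inferInstance
  obtain ⟨hP⟩ := EtBCQ.nonempty_isLimit_pbCone α ((Functor.const I).map gam) (cT := c)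
    (cS := constCone I (Spec (CommRingCat.of V))) (cB := constCone I (Spec (CommRingCat.of Ω))) g gam
    (fun a => (Category.comp_id g).trans (hg a).symm)
    (fun a => (Category.comp_id gam).trans (Category.id_comp gam).symm) pT pB
    (EtStrictLoc.isLimitCone X x R) (isLimitConstCone I _) (isLimitConstCone I _) H
  exact EtLimit.cohDimLE_limit _ _ hP n fun a =>
    haveI : IsAffine ((𝟭 Scheme).obj a.nhd.et.left) := (inferInstance : IsAffine (Spec a.nhd.1.left.unop))
    cohDimLE_stage f a.nhd.et.hom hn

/-- the base change of the geometric generic fibre to a strict localisation -/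
theorem isPullback_fibre {S : Scheme.{u}} (g : S ⟶ X) :
    IsPullback (pullback.snd (pullback.fst f (Spec.map (CommRingCat.ofHom (algebraMap V Ω)))) g)
      (pullback.fst (pullback.fst f (Spec.map (CommRingCat.ofHom (algebraMap V Ω)))) g ≫ pullback.snd f _)
      (g ≫ f) (Spec.map (CommRingCat.ofHom (algebraMap V Ω))) :=
  (IsPullback.of_hasPullback _ g).flip.paste_vert (IsPullback.of_hasPullback f _)

/-- **nearby cycles vanish above the dimension of the generic fibre** -/
theorem zeroAt_Rpush_above {n : ℕ}
    (hn : topologicalKrullDim ↥(pullback f (Spec.map (CommRingCat.ofHom (algebraMap V K)))) ≤ n)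
    (G : EtCoh.Ab (pullback f (Spec.map (CommRingCat.ofHom (algebraMap V Ω))))) {N : ℕ} (hN : 0 < N)
    (hG : EtPBC.Killed N G) {q : ℕ} (hq : n < q) (x : X) :
    EtPBC.ZeroAt ((EtCoh.Rpush (pullback.fst f (Spec.map (CommRingCat.ofHom (algebraMap V Ω)))) q).obj G) x := by
  let gam := Spec.map (CommRingCat.ofHom (algebraMap V Ω))
  let j := pullback.fst f gam
  let Q := EtBCQ.mkSH X x
  haveI : IsSepClosed (IsLocalRing.ResidueField Q.R) := Q.sh.isSepClosure.1
  haveI : HenselianLocalRing Q.R := Q.sh.henselian
  have hξ : (Hens2.geomPt X x Q.R) (default : ↥(Spec (CommRingCat.of (IsLocalRing.ResidueField Q.R)))) = x := by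
    refine (Eq.trans ?_ Q.spec_closed)
    show Q.spec ((Spec.map (CommRingCat.ofHom (IsLocalRing.residue Q.R))) default) = _
    exact congrArg Q.spec (by
      rw [Subsingleton.elim (default : ↥(Spec (CommRingCat.of (IsLocalRing.ResidueField Q.R))))
        (IsLocalRing.closedPoint _)]
      exact EtBCQ.Spec_closedPoint' (IsLocalRing.residue Q.R))
  rw [← EtPBC.isZero_stalk_iff_zeroAt hξ]
  obtain ⟨e⟩ := EtStrictLoc.nonempty_stalkRpush j x Q.R q
  have hcd := cohDimLE_fibre (Ω := Ω) (K := K) f hn Q _ _ (isPullback_fibre (Ω := Ω) f Q.spec)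
  have hk : EtPBC.Killed N ((EtCoh.pull (pullback.fst j Q.spec)).obj G) := EtPBC.killed_pull _ hG
  exact (@AddCommGrpCat.isZero_of_subsingleton _
    (hcd _ (fun U s y => ⟨U, 𝟙 U, ⟨y, rfl⟩, isOfFinAddOrder_iff_nsmul_eq_zero.2 ⟨N, hN, hk U _⟩⟩) q hq)).of_iso (e.app G)

end Groth.Agent.NearCyc
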