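import Groth.Agent.NearCyc.EdgeHigh
import Groth.Agent.NearCyc.SpecDim
import Groth.Agent.NearCyc.SmoothStalk
import Groth.Agent.NearCyc.AboveTrdeg
import Groth.Agent.NearCyc.Stalks
import Groth.Agent.EtCons.FlcNear
import Mathlib

/-! Vanishing of nearby cycle terms on the special fibre of a proper flat family. -/

set_option autoImplicit false
set_option backward.isDefEq.respectTransparency false
set_option backward.isDefEq.respectTransparency.types false
set_option linter.style.haveILetI false
set_option linter.overlappingInstances false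
set_option linter.auxLemma false
set_option maxHeartbeats 1000000
set_option synthInstance.maxHeartbeats 400000

universe u

open CategoryTheory CategoryTheory.Limits AlgebraicGeometry IsLocalRing

noncomputable section

namespace Groth.Agent.NearCyc

attribute [local instance 100000] EtCoh.H._proof_1 Groth.Agent.EtMV.hext
attribute [local instance 200000] Groth.Agent.EtMV.hextAb

theorem isLocallyConstant_const (X : Scheme.{u}) (M : Type) [AddCommGroup M] :
    EtRest.IsLocallyConstant (EtCoh.const X M) :=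
  (EtFLC.isLC_iff _).2 fun x => ⟨EtCoh.top X, x, ULift.{u + 1} M, inferInstance,
    _, rfl, (EtCons.isTriv_cst M).congr AddEquiv.ulift⟩

theorem smooth_restrict {X Y : Scheme.{u}} (f : X ⟶ Y) [LocallyOfFinitePresentation f] :
    Smooth (f.smoothLocus.ι ≫ f) := by
  rw [← Scheme.Hom.smoothLocus_eq_top_iff, ← Scheme.Hom.preimage_smoothLocus_eq]
  exact Scheme.Opens.ι_preimage_self f.smoothLocus

theorem succ_le_of_not_le {a : WithBot ℕ∞} {e : ℕ} (h : ¬ a ≤ (e : WithBot ℕ∞)) : ((e + 1 : ℕ) : WithBot ℕ∞) ≤ a := by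
  rw [Unibranch.natCast_le_iff_of_le_iff] at h
  push Not at h
  obtain ⟨j, hj, hej⟩ := h
  exact le_trans (WithBot.coe_le_coe.2 (ENat.natCast_le_natCast.2 hej)) hj

variable {V K Ω : Type u} [CommRing V] [IsDomain V] [IsDiscreteValuationRing V] [HenselianLocalRing V]
  [IsSepClosed (ResidueField V)] [Field K] [Algebra V K] [IsFractionRing V K] [Field Ω] [IsSepClosed Ω]
  [Algebra K Ω] [Algebra.IsSeparable K Ω] [Algebra V Ω] [IsScalarTower V K Ω] {X : Scheme.{u}}
  (f : X ⟶ Spec (CommRingCat.of V))

/-- nearby cycle stalks vanish at points with large closure -/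
theorem zeroAt_Rpush_trdeg [LocallyOfFiniteType f] [QuasiCompact f] {n : ℕ}
    (hn : topologicalKrullDim ↥(pullback f (Spec.map (CommRingCat.ofHom (algebraMap V K)))) ≤ n)
    {m : ℕ} (hm : (m : ResidueField V) ≠ 0) {q : ℕ} (hq : 0 < q) {x : X} (hx : f x = closedPoint V)
    (hdim : ¬ topologicalKrullDim ↥(closure ({x} : Set X)) ≤ ((n - q : ℕ) : WithBot ℕ∞)) :
    EtPBC.ZeroAt ((EtCoh.Rpush (pullback.fst f (Spec.map (CommRingCat.ofHom (algebraMap V Ω)))) q).obj
      ((EtCoh.pull (pullback.fst f (Spec.map (CommRingCat.ofHom (algebraMap V Ω))))).obj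
        (EtCoh.const X (ZMod m)))) x := by
  have hm0 : 0 < m := Nat.pos_of_ne_zero fun h => hm (by subst h; exact Nat.cast_zero)
  let gam := Spec.map (CommRingCat.ofHom (algebraMap V Ω))
  let j := pullback.fst f gam
  let Q := EtBCQ.mkSH X x
  haveI : IsSepClosed (ResidueField Q.R) := Q.sh.isSepClosure.1
  haveI : HenselianLocalRing Q.R := Q.sh.henselian
  rw [← EtPBC.isZero_stalk_iff_zeroAt (EtBCQ.geomPt_apply x Q.R)]
  obtain ⟨e⟩ := EtStrictLoc.nonempty_stalkRpush j x Q.R q
  refine (@AddCommGrpCat.isZero_of_subsingleton _ ?_).of_iso (e.app _)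
  haveI : EtPBC.Killed m (EtCoh.const X (ZMod m)) := EtPBC.killed_const _ m
  refine EtPBC.subsingleton_H_of_iso ((EtCoh.pull (pullback.fst j Q.spec)).mapIso (EtCore.pullConst j (ZMod m)) ≪≫
    EtCore.pullConst (pullback.fst j Q.spec) (ZMod m)).symm q ?_
  refine LAcyc.subsingleton_H_zmod m hm0 (fun l hl hd => ?_)
  have hl0 : (l : ResidueField V) ≠ 0 := fun h0 => hm (by
    obtain ⟨r, rfl⟩ := hd
    rw [Nat.cast_mul, h0, zero_mul])
  exact (LAcyc.subsingleton_H_const_iff (isPullback_fibre (Ω := Ω) f Q.spec).isoPullback.symm (ZMod l) q).1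
    (subsingleton_H_above_sub (K := K) (Ω := Ω) f hx Q.R hn (succ_le_of_not_le hdim) l hl hl0 (by omega))

variable [IsProper f] [Flat f] [LocallyOfFinitePresentation f] {n d : ℕ}
  (hn : topologicalKrullDim ↥(pullback f (Spec.map (CommRingCat.ofHom (algebraMap V K)))) ≤ n)
  (hd : topologicalKrullDim {x : ↥X // f x = closedPoint V ∧ x ∉ f.smoothLocus} ≤ d)
  {m : ℕ} (hm : (m : ResidueField V) ≠ 0)

include hd in
theorem dim_closure_le_singular {x : X} (hx : f x = closedPoint V) (hxs : x ∉ f.smoothLocus) :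
    topologicalKrullDim ↥(closure ({x} : Set X)) ≤ d := by
  have hC : IsClosed {y : X | f y = closedPoint V ∧ y ∉ f.smoothLocus} :=
    IsClosed.inter ((IsLocalRing.isClosed_singleton_closedPoint V).preimage f.continuous)
      f.smoothLocus.isOpen.isClosed_compl
  exact le_trans (Topology.IsEmbedding.inclusion
    (closure_minimal (t := {y : X | f y = closedPoint V ∧ y ∉ f.smoothLocus}) (fun y (hy : y ∈ ({x} : Set X)) => (Set.mem_singleton_iff.1 hy).symm ▸ (⟨hx, hxs⟩ : f x = closedPoint V ∧ x ∉ f.smoothLocus)) hC)).isInducing.topologicalKrullDim_le hd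

include hn hd hm in
/-- the terms of the comparison with the geometric generic fibre -/
theorem subsingleton_H_terms :
    (∀ p : ℕ, n + d < p →
      Subsingleton (EtCoh.H X (kernel ((EtCoh.pullPushAdj (pullback.fst f (Spec.map (CommRingCat.ofHom (algebraMap V Ω))))).unit.app (EtCoh.const X (ZMod m)))) p) ∧
      Subsingleton (EtCoh.H X (cokernel ((EtCoh.pullPushAdj (pullback.fst f (Spec.map (CommRingCat.ofHom (algebraMap V Ω))))).unit.app (EtCoh.const X (ZMod m)))) p)) ∧
    ∀ p q : ℕ, n + d < p + (q + 1) →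
      Subsingleton (EtCoh.H X ((EtCoh.Rpush (pullback.fst f (Spec.map (CommRingCat.ofHom (algebraMap V Ω)))) (q + 1)).obj
        ((EtCoh.pull (pullback.fst f (Spec.map (CommRingCat.ofHom (algebraMap V Ω))))).obj (EtCoh.const X (ZMod m)))) p) := by
  have hm0 : 0 < m := Nat.pos_of_ne_zero fun h => hm (by subst h; exact Nat.cast_zero)
  haveI := smooth_restrict f
  let j := pullback.fst f (Spec.map (CommRingCat.ofHom (algebraMap V Ω)))
  let F := EtCoh.const X (ZMod m)
  have hF : EtPBC.Killed m F := EtPBC.killed_const _ m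
  have hFj : EtPBC.Killed m ((EtCoh.pull j).obj F) := EtPBC.killed_pull j hF
  have hlc := isLocallyConstant_const X (ZMod m)
  have hs : ∀ {x : X}, f x = closedPoint V → x ∈ f.smoothLocus → _ := fun {x} hx hxU =>
    zeroAt_smooth_point f f.smoothLocus Ω hx hxU F hlc hm hF
  have hmin : ∀ {x : X} {e : ℕ}, f x = closedPoint V → x ∉ f.smoothLocus →
      ¬ topologicalKrullDim ↥(closure ({x} : Set X)) ≤ ((min e d : ℕ) : WithBot ℕ∞) →
      ¬ topologicalKrullDim ↥(closure ({x} : Set X)) ≤ (e : WithBot ℕ∞) := fun {x e} hx hxs h h' => by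
    rcases min_choice e d with he | he <;> rw [he] at h
    · exact h h'
    · exact h (dim_closure_le_singular f hd hx hxs)
  refine ⟨fun p hp => ⟨?_, ?_⟩, fun p q hpq => ?_⟩
  · refine subsingleton_H_of_special_supp f _ hm0 (EtPBC.killed_of_mono (kernel.ι _) hF) (min n d) (fun x hx hdim => ?_)
      p (by omega)
    by_cases hxs : x ∈ f.smoothLocus
    · exact (hs hx hxs).1
    · exact absurd (dim_closure_le_generic (K := K) f hn x hx) (hmin hx hxs hdim)
  · refine subsingleton_H_of_special_supp f _ hm0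
      (EtPBC.killed_of_epi (cokernel.π _) (EtPBC.killed_push j hFj)) (min n d) (fun x hx hdim => ?_) p (by omega)
    by_cases hxs : x ∈ f.smoothLocus
    · exact (hs hx hxs).2.1
    · exact absurd (dim_closure_le_generic (K := K) f hn x hx) (hmin hx hxs hdim)
  · by_cases hqn : q + 1 ≤ n
    · refine subsingleton_H_of_special_supp f _ hm0 (EtPBC.killed_Rpush j _ hFj) (min (n - (q + 1)) d)
        (fun x hx hdim => ?_) p (by omega)
      by_cases hxs : x ∈ f.smoothLocus
      · exact (hs hx hxs).2.2 q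
      · exact zeroAt_Rpush_trdeg (K := K) (Ω := Ω) f hn hm (Nat.succ_pos q) hx (hmin hx hxs hdim)
    · haveI : Algebra.IsIntegral K Ω := (Algebra.IsSeparable.isAlgebraic K Ω).isIntegral
      refine EtPBC.eq_zero_of_isEmpty _ (fun x => ?_) p
      exact zeroAt_Rpush_above (K := K) f hn _ hm0 hFj (by omega) x

end Groth.Agent.NearCyc
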