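import Groth.Agent.EtPBC.HensDvrNorm
import Groth.Agent.Hensel.Branches
import Groth.Agent.Hensel.Local
import Groth.Agent.EtOpenBC.LocalAlg
import Mathlib

/-! Divisibility of units in algebraic extensions of a strictly henselian field containing all roots of a uniformizer. -/

set_option autoImplicit false
set_option backward.isDefEq.respectTransparency false
set_option backward.isDefEq.respectTransparency.types false
set_option linter.style.haveILetI false

universe u

open IsLocalRing Polynomial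

noncomputable section

namespace Groth.Agent.NearCyc

/-- iterated roots of units -/
theorem exists_pow_pow_eq (p : ℕ) [Fact p.Prime] (B : Type u) [CommRing B] [HenselianLocalRing B]
    [IsSepClosed (ResidueField B)] (hp : IsUnit (p : B)) : ∀ (c : ℕ) {w : B}, IsUnit w → ∃ v : B, v ^ p ^ c = w ∧ IsUnit v
  | 0, w, hw => ⟨w, by simp, hw⟩
  | c + 1, w, hw => by
    obtain ⟨v, hv, hvu⟩ := exists_pow_pow_eq p B hp c hw
    obtain ⟨u, hu, huu⟩ := EtPBC.exists_pow_eq_of_isUnit p B hp hvu
    exact ⟨u, by rw [pow_succ', pow_mul, hu, hv], huu⟩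

/-- a coprime power being a `p`-th power suffices -/
theorem exists_pow_eq_of_coprime {L : Type u} [Field L] {p m : ℕ} (hp0 : 0 < p) (h : Nat.Coprime m p) {a : L}
    (ha : ∃ b, b ^ p = a ^ m) : ∃ b, b ^ p = a := by
  rcases eq_or_ne a 0 with rfl | ha0
  · exact ⟨0, zero_pow hp0.ne'⟩
  obtain ⟨b, hb⟩ := ha
  have hx := Nat.gcd_eq_gcd_ab m p
  rw [h.gcd_eq_one, Nat.cast_one] at hx
  refine ⟨b ^ (Nat.gcdA m p) * a ^ (Nat.gcdB m p), ?_⟩
  calc (b ^ Nat.gcdA m p * a ^ Nat.gcdB m p) ^ p
      = (b ^ p) ^ Nat.gcdA m p * a ^ ((p : ℤ) * Nat.gcdB m p) := by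
        rw [mul_pow, zpow_mul, zpow_natCast, ← zpow_natCast (b ^ Nat.gcdA m p), ← zpow_natCast b, ← zpow_mul,
          ← zpow_mul, mul_comm (Nat.gcdA m p) (p : ℤ), ← zpow_natCast (a ^ Nat.gcdB m p), ← zpow_natCast a p,
          ← zpow_mul, ← zpow_mul, mul_comm (Nat.gcdB m p) (p : ℤ)]
    _ = a ^ ((m : ℤ) * Nat.gcdA m p + (p : ℤ) * Nat.gcdB m p) := by
        rw [hb, zpow_add₀ ha0, zpow_mul a (m : ℤ), zpow_natCast]
    _ = a := by rw [← hx, zpow_one]

variable {R' K' L : Type u} [CommRing R'] [IsDomain R'] [IsDiscreteValuationRing R'] [HenselianLocalRing R']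
  [IsSepClosed (ResidueField R')] [Field K'] [Algebra R' K'] [IsFractionRing R' K'] [Field L] [Algebra R' L]
  [Algebra K' L] [IsScalarTower R' K' L] (p : ℕ) [hpp : Fact p.Prime] {π : R'}

/-- the separable case -/
theorem exists_pow_eq_separable (hp : IsUnit (p : R')) (hπ : Irreducible π)
    (hroot : ∀ n : ℕ, ∃ ρ : L, ρ ^ p ^ n = algebraMap R' L π)
    (hzeta : ∀ (n : ℕ) (z : L), z ^ p ^ n = 1 → ∃ w, w ^ p = z) (a : L) (ha : IsSeparable K' a) :
    ∃ b, b ^ p = a := by
  rcases eq_or_ne a 0 with rfl | ha0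
  · exact ⟨0, zero_pow hpp.out.ne_zero⟩
  let E := IntermediateField.adjoin K' ({a} : Set L)
  haveI : FiniteDimensional K' E := IntermediateField.adjoin.finiteDimensional ha.isIntegral
  haveI : Algebra.IsSeparable K' E := (IntermediateField.isSeparable_adjoin_simple_iff_isSeparable K' L).2 ha
  let B := integralClosure R' E
  haveI : IsDedekindDomain B := integralClosure.isDedekindDomain (A := R') (K := K') (L := E)
  haveI : Algebra.IsIntegral R' B := IsIntegralClosure.isIntegral_algebra R' E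
  haveI : IsLocalRing B := Hensel.isLocalRing_of_integral_domain R' B
  haveI : HenselianLocalRing B := EtOpenBC.henselian_integral R' B
  haveI : IsSepClosed (ResidueField B) := EtOpenBC.isSepClosed_residue_integral R' B
  haveI : IsLocalHom (algebraMap R' B) := EtOpenBC.isLocalHom_of_integral R' B
  haveI : IsFractionRing B E := integralClosure.isFractionRing_of_finite_extension K' E
  have hinj : Function.Injective (algebraMap R' E) := by
    rw [IsScalarTower.algebraMap_eq R' K' E]
    exact (algebraMap K' E).injective.comp (IsFractionRing.injective R' K')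
  have hinjB : Function.Injective (algebraMap R' B) := fun x y h => hinj (congrArg (Subtype.val : B → E) h)
  have hnf : ¬ IsField B := fun h => by
    haveI := h.isPrincipalIdealRing
    letI := h.toField
    exact hπ.not_isUnit ((isUnit_of_map_unit (algebraMap R' B) π
      (isUnit_iff_ne_zero.2 fun h0 => hπ.ne_zero (hinjB (by rw [h0, map_zero])))))
  haveI : IsDiscreteValuationRing B := ((IsDiscreteValuationRing.TFAE B hnf).out 2 0).1 ‹IsDedekindDomain B›
  obtain ⟨ϖ, hϖ⟩ := IsDiscreteValuationRing.exists_irreducible B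
  obtain ⟨e, he⟩ := IsDiscreteValuationRing.eq_unit_mul_pow_irreducible
    (show algebraMap R' B π ≠ 0 from fun h0 => hπ.ne_zero (hinjB (by rw [h0, map_zero]))) hϖ
  obtain ⟨u', hu'⟩ := he
  have he0 : e ≠ 0 := by
    rintro rfl
    rw [pow_zero, mul_one] at hu'
    exact hπ.not_isUnit (isUnit_of_map_unit (algebraMap R' B) π (hu' ▸ u'.isUnit))
  let a' : E := ⟨a, IntermediateField.mem_adjoin_simple_self K' a⟩
  obtain ⟨r, u, hu⟩ := IsDiscreteValuationRing.exists_units_eq_smul_zpow_of_irreducible (K := E) hϖ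
    (show a' ≠ 0 from fun h => ha0 (congrArg Subtype.val h))
  let f : B →+* L := (algebraMap E L).comp (algebraMap B E)
  have hfπ : f (algebraMap R' B π) = algebraMap R' L π := rfl
  have ha' : a = f u * f ϖ ^ r := by
    have h1 := congrArg (algebraMap E L) hu
    rw [Units.smul_def, Algebra.smul_def, map_mul, map_zpow₀] at h1
    exact h1
  have hf0 : ∀ v : Bˣ, f v ≠ 0 := fun v => (v.isUnit.map f).ne_zero
  let w : Bˣ := u ^ (e : ℤ) * (u' ^ r)⁻¹
  have hw : a ^ e = f w * algebraMap R' L π ^ r := by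
    rw [ha', ← hfπ, hu', map_mul, map_pow, mul_zpow, mul_pow, ← zpow_natCast (f ϖ ^ r), ← zpow_mul,
      ← zpow_natCast (f ϖ) e, ← zpow_mul, mul_comm (e : ℤ) r, ← mul_assoc]
    congr 1
    let fu : Bˣ →* Lˣ := Units.map f.toMonoidHom
    have h1 : ((fu w : Lˣ) : L) = f w := rfl
    rw [← h1, show fu w = fu u ^ (e : ℤ) * (fu u' ^ r)⁻¹ by simp [w]]
    push_cast
    rw [mul_assoc]
    erw [inv_mul_cancel₀ (zpow_ne_zero r (hf0 u'))]
    rw [mul_one]
    exact (zpow_natCast _ _).symm
  obtain ⟨c, e', he', hee⟩ := Nat.exists_eq_pow_mul_and_not_dvd he0 p hpp.out.ne_one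
  obtain ⟨v, hv, hvu⟩ := exists_pow_pow_eq p B (by simpa using hp.map (algebraMap R' B)) c w.isUnit
  obtain ⟨ρ, hρ⟩ := hroot (c + 1)
  have hρ0 : ρ ≠ 0 := fun h0 => by
    rw [h0, zero_pow (pow_ne_zero _ hpp.out.ne_zero)] at hρ
    have : algebraMap R' E π = 0 := (algebraMap E L).injective (by rw [map_zero]; exact hρ.symm)
    exact hπ.ne_zero (hinj (by rw [this, map_zero]))
  have hv0 : f v ≠ 0 := (hvu.map f).ne_zero
  let z := a ^ e' / (f v * (ρ ^ r) ^ p)
  have hz : z ^ p ^ c = 1 := by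
    rw [div_pow, ← pow_mul, mul_comm e', ← hee, hw, mul_pow, ← map_pow, hv, ← pow_mul, ← pow_succ',
      ← zpow_natCast (ρ ^ r), ← zpow_mul, mul_comm r, zpow_mul, zpow_natCast, hρ, div_self]
    exact mul_ne_zero (hf0 w) (zpow_ne_zero r (fun h0 => hρ0 (by
      have : ρ ^ p ^ (c + 1) = 0 := hρ.trans h0
      exact eq_zero_of_pow_eq_zero this)))
  obtain ⟨y, hy⟩ := hzeta c z hz
  obtain ⟨v', hv', -⟩ := EtPBC.exists_pow_eq_of_isUnit p B (by simpa using hp.map (algebraMap R' B)) hvu
  refine exists_pow_eq_of_coprime hpp.out.pos ((hpp.out.coprime_iff_not_dvd.2 he').symm) ⟨y * f v' * ρ ^ r, ?_⟩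
  rw [mul_pow, mul_pow, hy, ← map_pow, hv', mul_assoc]
  exact div_mul_cancel₀ _ (mul_ne_zero hv0 (pow_ne_zero _ (zpow_ne_zero r hρ0)))

/-- **all units of algebraic extensions are `p`-th powers** -/
theorem exists_pow_eq_algebraic [Algebra.IsAlgebraic K' L] (hp : IsUnit (p : R')) (hπ : Irreducible π)
    (hroot : ∀ n : ℕ, ∃ ρ : L, ρ ^ p ^ n = algebraMap R' L π)
    (hzeta : ∀ (n : ℕ) (z : L), z ^ p ^ n = 1 → ∃ w, w ^ p = z) (a : L) :
    ∃ b, b ^ p = a := by
  obtain ⟨q, hq⟩ := ExpChar.exists K'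
  obtain ⟨n, hn⟩ := IsPurelyInseparable.pow_mem (separableClosure K' L) q a
  rcases hq with _ | hqp
  · exact exists_pow_eq_separable (K' := K') p hp hπ hroot hzeta a (by
      haveI : CharZero K' := ‹_›
      exact Algebra.IsSeparable.isSeparable K' a)
  · have hne : q ≠ p := fun h => by
      subst h
      have h2 : (q : K') = 0 := CharP.cast_eq_zero K' q
      exact (hp.map (algebraMap R' K')).ne_zero (by rw [map_natCast]; exact h2)
    refine exists_pow_eq_of_coprime hpp.out.pos ((Nat.coprime_primes hqp hpp.out).2 hne |>.pow_left n) ?_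
    obtain ⟨s, hs⟩ := hn
    refine exists_pow_eq_separable (K' := K') p hp hπ hroot hzeta _ ?_
    rw [← hs]
    exact mem_separableClosure_iff.1 s.2

end Groth.Agent.NearCyc
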